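import Cfsg.Prelude.Def_Classical
import Cfsg.Prelude.Def_ClassicalGeometry
import Mathlib

/-!
The special unitary group `SU₆(2)` over a concrete field with four elements, its matrices given by codes, and
its monomial elements.
-/

set_option autoImplicit false
set_option maxRecDepth 100000

namespace CfsgLib.SU6Cover

open Matrix

/-- The field with four elements. -/
abbrev F4 : Type := QuadraticAlgebra (ZMod 2) 1 1

instance factF4 : Fact (∀ r : ZMod 2, r ^ 2 ≠ 1 + 1 * r) := ⟨by decide⟩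

instance fintypeF4 : Fintype F4 :=
  Fintype.ofEquiv _ (QuadraticAlgebra.equivProd (1 : ZMod 2) 1).symm

theorem card_F4 : Fintype.card F4 = 4 := by decide +kernel

/-- The element with a code. -/
def dec (a : ℕ) : F4 := ⟨(a : ZMod 2), ((a / 2 : ℕ) : ZMod 2)⟩

theorem dec_mod (a : ℕ) : dec (a % 4) = dec a := by
  have h1 : ((a % 4 : ℕ) : ZMod 2) = (a : ZMod 2) := by rw [ZMod.natCast_eq_natCast_iff']; omega
  have h2 : ((a % 4 / 2 : ℕ) : ZMod 2) = ((a / 2 : ℕ) : ZMod 2) := by rw [ZMod.natCast_eq_natCast_iff']; omega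
  simp only [dec, h1, h2]

/-- The sum of codes. -/
def addC (a b : ℕ) : ℕ := (a % 4) ^^^ (b % 4)

/-- The product of codes. -/
def mulC (a b : ℕ) : ℕ := if a % 4 = 0 ∨ b % 4 = 0 then 0 else (a % 4 + b % 4 - 2) % 3 + 1

theorem dec_add (a b : ℕ) : dec (addC a b) = dec a + dec b := by
  have key : ∀ x y : Fin 4, dec (x.val ^^^ y.val) = dec x.val + dec y.val := by decide +kernel
  have := key ⟨a % 4, by omega⟩ ⟨b % 4, by omega⟩
  rw [addC, this]
  simp only [dec_mod]

theorem dec_mul (a b : ℕ) : dec (mulC a b) = dec a * dec b := by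
  have key : ∀ x y : Fin 4, dec (mulC x.val y.val) = dec x.val * dec y.val := by decide +kernel
  have := key ⟨a % 4, by omega⟩ ⟨b % 4, by omega⟩
  simp only [dec_mod] at this
  rw [← this]
  congr 1
  simp only [mulC, Nat.mod_mod]

theorem dec_surj : ∀ x : F4, ∃ a : Fin 4, dec a.val = x := by decide +kernel

theorem dec_inj : ∀ a b : Fin 4, dec a.val = dec b.val → a = b := by decide +kernel

theorem dec_eq_zero {a : ℕ} (h : dec a = 0) : a % 4 = 0 := by
  have := dec_inj ⟨a % 4, by omega⟩ ⟨0, by omega⟩ (by simp only [dec_mod, h]; decide +kernel)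
  exact congrArg Fin.val this

/-- The matrix of a list of thirty-six codes. -/
def toM (A : List ℕ) : Matrix (Fin 6) (Fin 6) F4 :=
  Matrix.of fun i j => dec (A.getD (6 * i.val + j.val) 0)

/-- One entry of a product. -/
def entC (A B : List ℕ) (i j : ℕ) : ℕ :=
  addC (addC (addC (addC (addC (mulC (A.getD (6 * i) 0) (B.getD j 0))
    (mulC (A.getD (6 * i + 1) 0) (B.getD (6 + j) 0)))
    (mulC (A.getD (6 * i + 2) 0) (B.getD (12 + j) 0)))
    (mulC (A.getD (6 * i + 3) 0) (B.getD (18 + j) 0)))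
    (mulC (A.getD (6 * i + 4) 0) (B.getD (24 + j) 0)))
    (mulC (A.getD (6 * i + 5) 0) (B.getD (30 + j) 0))

/-- The product. -/
def prodC (A B : List ℕ) : List ℕ := (List.range 36).map fun k => entC A B (k / 6) (k % 6)

/-- A list from a function of two indices. -/
def ofFn2 (f : ℕ → ℕ → ℕ) : List ℕ := (List.range 36).map fun k => f (k / 6) (k % 6)

theorem toM_ofFn2 (f : ℕ → ℕ → ℕ) : toM (ofFn2 f) = Matrix.of fun i j : Fin 6 => dec (f i.val j.val) := by
  ext i j : 1
  simp only [toM, Matrix.of_apply, ofFn2]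
  rw [List.getD_eq_getElem _ _ (by simp; omega), List.getElem_map, List.getElem_range,
    show (6 * i.val + j.val) / 6 = i.val by omega, show (6 * i.val + j.val) % 6 = j.val by omega]

theorem toM_prodC (A B : List ℕ) : toM (prodC A B) = toM A * toM B := by
  rw [show prodC A B = ofFn2 (entC A B) from rfl, toM_ofFn2]
  ext i j : 1
  simp only [toM, Matrix.of_apply, Matrix.mul_apply, Fin.sum_univ_six, entC, dec_add, dec_mul,
    Fin.val_zero, Fin.val_one, Fin.val_two, show ((3 : Fin 6) : ℕ) = 3 from rfl,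
    show ((4 : Fin 6) : ℕ) = 4 from rfl, show ((5 : Fin 6) : ℕ) = 5 from rfl, mul_zero, mul_one, zero_add,
    add_zero, Nat.reduceMul]

/-- The scalar matrix of a code. -/
def scalC (c : ℕ) : List ℕ := ofFn2 fun i j => if i = j then c else 0

theorem toM_scal : ∀ c : Fin 4, toM (scalC c.val) = Matrix.scalar (Fin 6) (dec c.val) := by decide +kernel

theorem toM_one : toM (scalC 1) = 1 := by decide +kernel

/-- The conjugate transpose. -/
def tconjC (A : List ℕ) : List ℕ := ofFn2 fun i j => mulC (A.getD (6 * j + i) 0) (A.getD (6 * j + i) 0)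

theorem toM_tconjC (A : List ℕ) : toM (tconjC A) = ((toM A).map (· ^ 2))ᵀ := by
  rw [tconjC, toM_ofFn2]
  ext i j : 1
  simp [toM, dec_mul, pow_two]

/-- The matrix equality on codes. -/
def eqC (A B : List ℕ) : Bool :=
  (List.range 36).all fun k => Nat.beq (A.getD k 0 % 4) (B.getD k 0 % 4)

theorem toM_eq_of_eqC {A B : List ℕ} (h : eqC A B = true) : toM A = toM B := by
  ext i j : 1
  simp only [eqC, List.all_eq_true, List.mem_range] at h
  have := Nat.eq_of_beq_eq_true (h (6 * i.val + j.val) (by omega))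
  simp only [toM, Matrix.of_apply]
  rw [← dec_mod, this, dec_mod]

/-- The value of a word in a list of matrices. -/
def evalC (L : List (List ℕ)) : List ℕ → List ℕ
  | [] => scalC 1
  | r :: w => prodC (L.getD r []) (evalC L w)

/-- The group `SU₆(2)` over the concrete field. -/
abbrev G6 : Type := ↥(Cfsg.SU 6 F4 2)

/-- The matrix of an element. -/
def mt : G6 →* Matrix (Fin 6) (Fin 6) F4 := (Cfsg.slToMat 6 F4).comp (Cfsg.SU 6 F4 2).subtype

theorem mt_injective : Function.Injective mt := fun _ _ h => Subtype.ext (Subtype.ext h)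

theorem frob_add : ∀ a b : F4, (a + b) ^ 2 = a ^ 2 + b ^ 2 := by decide +kernel

theorem frob_sum {ι : Type*} (s : Finset ι) (f : ι → F4) : (∑ i ∈ s, f i) ^ 2 = ∑ i ∈ s, f i ^ 2 := by
  classical
  induction s using Finset.induction with
  | empty => simp
  | insert a t ha ih => rw [Finset.sum_insert ha, Finset.sum_insert ha, frob_add, ih]

theorem mt_unitary (g : G6) : (mt g)ᵀ * (mt g).map (· ^ 2) = 1 := by
  ext i j : 1
  have h := g.2 (Pi.single i 1) (Pi.single j 1)
  rw [Matrix.mulVec_single_one, Matrix.mulVec_single_one] at h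
  simp only [Cfsg.hermForm, Matrix.col_apply] at h
  rw [Matrix.mul_apply]
  refine Eq.trans ?_ (h.trans ?_)
  · rfl
  · rw [Finset.sum_eq_single i]
    · rcases eq_or_ne i j with rfl | hij
      · simp
      · simp [hij]
    · intro k _ hk; simp [hk]
    · simp

/-- An element from a unitary matrix of determinant one. -/
def mkSU (M : Matrix (Fin 6) (Fin 6) F4) (hd : M.det = 1) (h : Mᵀ * M.map (· ^ 2) = 1) : G6 :=
  ⟨⟨M, hd⟩, fun u v => by
    have key : ∀ x y : Fin 6 → F4, Cfsg.hermForm 6 F4 2 x y = x ⬝ᵥ (fun k => y k ^ 2) := fun _ _ => rfl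
    have hv : (fun k => (M *ᵥ v) k ^ 2) = M.map (· ^ 2) *ᵥ (fun k => v k ^ 2) := by
      funext k
      simp only [Matrix.mulVec, dotProduct, Matrix.map_apply]
      rw [frob_sum]
      exact Finset.sum_congr rfl fun j _ => mul_pow _ _ _
    show Cfsg.hermForm 6 F4 2 (M *ᵥ u) (M *ᵥ v) = Cfsg.hermForm 6 F4 2 u v
    rw [key, key, hv, ← Matrix.vecMul_transpose M u, ← Matrix.dotProduct_mulVec,
      Matrix.mulVec_mulVec, h, Matrix.one_mulVec]⟩

@[simp] theorem mt_mkSU (M : Matrix (Fin 6) (Fin 6) F4) (hd) (h) : mt (mkSU M hd h) = M := rfl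

theorem cube_one : ∀ x : F4, x ≠ 0 → x ^ 3 = 1 := by decide +kernel

theorem det_cube {M : Matrix (Fin 6) (Fin 6) F4} (h : Mᵀ * M.map (· ^ 2) = 1) : M.det ≠ 0 := fun h0 => by
  have := congrArg Matrix.det h
  rw [det_mul, det_transpose, h0, zero_mul, det_one] at this
  exact zero_ne_one this

/-- An element from codes, by unitarity and an order prime to three. -/
theorem exists_mk {A : List ℕ} {o : ℕ} (hu : eqC (prodC (tconjC A) A) (scalC 1) = true)
    (ho : eqC (evalC [A] (List.replicate o 0)) (scalC 1) = true) (h3 : Nat.Coprime o 3) :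
    ∃ g : G6, mt g = toM A := by
  have h1 : ((toM A).map (· ^ 2))ᵀ * toM A = 1 := by
    rw [← toM_tconjC, ← toM_prodC, toM_eq_of_eqC hu, toM_one]
  have h2 : (toM A)ᵀ * (toM A).map (· ^ 2) = 1 := by
    have := congrArg Matrix.transpose h1
    rwa [transpose_mul, transpose_transpose, transpose_one] at this
  have hev : ∀ k : ℕ, toM (evalC [A] (List.replicate k 0)) = toM A ^ k := by
    intro k
    induction k with
    | zero => rw [pow_zero, List.replicate_zero, evalC, toM_one]
    | succ k ih =>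
      rw [List.replicate_succ, evalC, toM_prodC, ih, pow_succ']
      rfl
  have hd : (toM A).det = 1 := by
    have ho' : (toM A).det ^ o = 1 := by
      rw [← det_pow, ← hev, toM_eq_of_eqC ho, toM_one, det_one]
    have := pow_gcd_eq_one.2 ⟨ho', cube_one _ (det_cube h2)⟩
    rwa [h3.gcd_eq_one, pow_one] at this
  exact ⟨mkSU _ hd h2, rfl⟩

/-- Powers of a primitive cube root of one. -/
def wp (k : ZMod 3) : F4 := dec (k.val + 1)

theorem wp_add : ∀ a b : ZMod 3, wp (a + b) = wp a * wp b := by decide +kernel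

theorem wp_ne : ∀ a : ZMod 3, wp a ≠ 0 := by decide +kernel

theorem wp_inj : ∀ a b : ZMod 3, wp a = wp b → a = b := by decide +kernel

theorem wp_surj : ∀ x : F4, x ≠ 0 → ∃ a : ZMod 3, wp a = x := by decide +kernel

theorem wp_zero : wp 0 = 1 := by decide +kernel

theorem wp_norm : ∀ a : ZMod 3, wp a * wp a ^ 2 = 1 := by decide +kernel

/-- A monomial matrix. -/
def mon (e : Fin 6 → ZMod 3) (σ : Equiv.Perm (Fin 6)) : Matrix (Fin 6) (Fin 6) F4 :=
  Matrix.of fun i j => if i = σ j then wp (e j) else 0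

theorem mon_mul (e f : Fin 6 → ZMod 3) (σ τ : Equiv.Perm (Fin 6)) :
    mon e σ * mon f τ = mon (fun j => e (τ j) + f j) (σ * τ) := by
  ext i j : 1
  rw [Matrix.mul_apply, Finset.sum_eq_single (τ j)]
  · simp only [mon, Matrix.of_apply, if_pos rfl, Equiv.Perm.mul_apply, wp_add]
    split <;> simp
  · intro k _ hk
    simp [mon, hk]
  · simp

theorem mon_one : mon 0 1 = 1 := by
  ext i j : 1
  simp [mon, Matrix.one_apply, wp_zero]

theorem mon_inj {e f : Fin 6 → ZMod 3} {σ τ : Equiv.Perm (Fin 6)} (h : mon e σ = mon f τ) : e = f ∧ σ = τ := by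
  have key : ∀ j, σ j = τ j ∧ e j = f j := fun j => by
    have h1 := congrFun (congrFun h (σ j)) j
    simp only [mon, Matrix.of_apply, if_pos rfl] at h1
    by_cases hc : σ j = τ j
    · rw [if_pos hc] at h1
      exact ⟨hc, wp_inj _ _ h1⟩
    · rw [if_neg hc] at h1
      exact absurd h1 (wp_ne _)
  exact ⟨funext fun j => (key j).2, Equiv.ext fun j => (key j).1⟩

theorem mon_unitary (e : Fin 6 → ZMod 3) (σ : Equiv.Perm (Fin 6)) :
    (mon e σ)ᵀ * (mon e σ).map (· ^ 2) = 1 := by
  ext i j : 1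
  rw [Matrix.mul_apply, Finset.sum_eq_single (σ i)]
  · rcases eq_or_ne i j with rfl | hij
    · simp [mon, wp_norm]
    · simp [mon, hij]
  · intro k _ hk
    simp [mon, hk]
  · simp

theorem wp_sum {ι : Type*} (s : Finset ι) (f : ι → ZMod 3) : ∏ i ∈ s, wp (f i) = wp (∑ i ∈ s, f i) := by
  classical
  induction s using Finset.induction with
  | empty => simp [wp_zero]
  | insert a t ha ih => rw [Finset.prod_insert ha, Finset.sum_insert ha, wp_add, ih]

theorem det_mon (e : Fin 6 → ZMod 3) (σ : Equiv.Perm (Fin 6)) : (mon e σ).det = wp (∑ j, e j) := by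
  have : mon e σ = (Matrix.diagonal fun i => wp (e i)).submatrix σ.symm id := by
    ext i j : 1
    simp [mon, Matrix.diagonal_apply, Equiv.symm_apply_eq]
    split <;> simp_all
  rw [this, Matrix.det_permute, Matrix.det_diagonal, wp_sum]
  have hneg : (-1 : F4) = 1 := by decide +kernel
  rcases Int.units_eq_one_or (Equiv.Perm.sign σ.symm) with h | h <;> rw [h] <;> simp [hneg]

/-- A monomial element. -/
def mg (e : Fin 6 → ZMod 3) (σ : Equiv.Perm (Fin 6)) (h : ∑ j, e j = 0) : G6 :=
  mkSU (mon e σ) (by rw [det_mon, h, wp_zero]) (mon_unitary e σ)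

theorem sum_of_mt {g : G6} {e : Fin 6 → ZMod 3} {σ : Equiv.Perm (Fin 6)} (h : mt g = mon e σ) :
    ∑ j, e j = 0 := wp_inj _ _ (by
  rw [← det_mon e σ, ← h, wp_zero]
  exact g.1.2)

/-- The monomial elements with permutation in a subgroup. -/
def MonS (S : Subgroup (Equiv.Perm (Fin 6))) : Subgroup G6 where
  carrier := {g | ∃ e σ, σ ∈ S ∧ mt g = mon e σ}
  mul_mem' := by
    rintro a b ⟨e, σ, hσ, ha⟩ ⟨f, τ, hτ, hb⟩
    exact ⟨_, _, S.mul_mem hσ hτ, by rw [map_mul, ha, hb, mon_mul]⟩
  one_mem' := ⟨0, 1, S.one_mem, by rw [map_one, mon_one]⟩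
  inv_mem' := by
    rintro a ⟨e, σ, hσ, ha⟩
    refine ⟨fun j => -e (σ⁻¹ j), σ⁻¹, S.inv_mem hσ, ?_⟩
    have h1 : mt a⁻¹ * mt a = 1 := by rw [← map_mul, inv_mul_cancel, map_one]
    have h2 : mt a * mon (fun j => -e (σ⁻¹ j)) σ⁻¹ = 1 := by
      rw [ha, mon_mul, mul_inv_cancel, ← mon_one]
      congr 1
      funext j
      simp
    exact left_inv_eq_right_inv h1 h2

theorem mem_MonS {S : Subgroup (Equiv.Perm (Fin 6))} {g : G6} {e : Fin 6 → ZMod 3}
    {σ : Equiv.Perm (Fin 6)} (h : mt g = mon e σ) : g ∈ MonS S ↔ σ ∈ S := by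
  refine ⟨?_, fun hσ => ⟨e, σ, hσ, h⟩⟩
  rintro ⟨f, τ, hτ, hg⟩
  rwa [(mon_inj (h.symm.trans hg)).2]

theorem MonS_mono {S T : Subgroup (Equiv.Perm (Fin 6))} (h : S ≤ T) : MonS S ≤ MonS T :=
  fun _ ⟨e, σ, hσ, hg⟩ => ⟨e, σ, h hσ, hg⟩

theorem card_Ix : Nat.card {e : Fin 6 → ZMod 3 // ∑ j, e j = 0} = 243 := by
  rw [← Nat.card_congr (Equiv.ofBijective
    (fun v : Fin 5 → ZMod 3 =>
      (⟨Fin.cons (-∑ j, v j) v, by rw [Fin.sum_cons]; exact neg_add_cancel _⟩ :
        {e : Fin 6 → ZMod 3 // ∑ j, e j = 0}))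
    ⟨fun a b h => by simpa [Fin.tail_cons] using congrArg (fun x => Fin.tail x.1) h, fun e => ⟨Fin.tail e.1, Subtype.ext (by
      have := e.2
      rw [Fin.sum_univ_succ] at this
      conv_rhs => rw [← Fin.cons_self_tail e.1]
      show Fin.cons (-∑ j, Fin.tail e.1 j) (Fin.tail e.1) = _
      congr 1
      exact (eq_neg_of_add_eq_zero_left this).symm)⟩⟩)]
  simp

theorem card_MonS (S : Subgroup (Equiv.Perm (Fin 6))) : Nat.card (MonS S) = 243 * Nat.card S := by
  rw [← card_Ix, ← Nat.card_prod]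
  refine (Nat.card_congr (Equiv.ofBijective
    (fun p : {e : Fin 6 → ZMod 3 // ∑ j, e j = 0} × S =>
      (⟨mg p.1.1 p.2.1 p.1.2, p.1.1, p.2.1, p.2.2, rfl⟩ : MonS S)) ⟨?_, ?_⟩)).symm
  · intro p q h
    have := mon_inj (congrArg (fun g : MonS S => mt g.1) h)
    exact Prod.ext (Subtype.ext this.1) (Subtype.ext this.2)
  · rintro ⟨g, e, σ, hσ, hg⟩
    exact ⟨(⟨e, sum_of_mt hg⟩, ⟨σ, hσ⟩), Subtype.ext (mt_injective hg.symm)⟩

/-- A unitary matrix with one non-zero entry in each column is monomial. -/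
theorem exists_mon {M : Matrix (Fin 6) (Fin 6) F4} (hu : Mᵀ * M.map (· ^ 2) = 1)
    (h : ∀ j i i', M i j ≠ 0 → M i' j ≠ 0 → i = i') : ∃ e σ, M = mon e σ := by
  have hex : ∀ j, ∃ i, M i j ≠ 0 := fun j => by
    by_contra hc
    push Not at hc
    have := congrFun (congrFun hu j) j
    simp [Matrix.mul_apply, hc] at this
  choose σ hσ using hex
  have hz : ∀ i j, i ≠ σ j → M i j = 0 := fun i j hij => by
    by_contra hne
    exact hij (h j i (σ j) hne (hσ j))
  have hinj : Function.Injective σ := fun a b hab => by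
    by_contra hne
    have := congrFun (congrFun hu a) b
    rw [Matrix.mul_apply, Finset.sum_eq_single (σ a) (fun k _ hk => by
      rw [Matrix.transpose_apply, hz k a hk, zero_mul]) (by simp)] at this
    simp [Matrix.one_apply, hne, hσ a] at this
    exact hσ b (hab ▸ this)
  choose e he using fun j => wp_surj _ (hσ j)
  refine ⟨e, Equiv.ofBijective σ ⟨hinj, Finite.surjective_of_injective hinj⟩, ?_⟩
  ext i j : 1
  simp only [mon, Matrix.of_apply, Equiv.ofBijective_apply]
  split_ifs with hij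
  · rw [hij]; exact (he j).symm
  · exact hz i j hij

/-- A permutation from a list of transpositions. -/
def swaps (l : List (ℕ × ℕ)) : Equiv.Perm (Fin 6) :=
  (l.map fun p => Equiv.swap (Fin.ofNat 6 p.1) (Fin.ofNat 6 p.2)).prod

/-- The codes of a monomial matrix. -/
def monC (e : List ℕ) (l : List (ℕ × ℕ)) : List ℕ :=
  ofFn2 fun i j => if i = (swaps l (Fin.ofNat 6 j)).val then e.getD j 0 % 3 + 1 else 0

theorem toM_monC (e : List ℕ) (l : List (ℕ × ℕ)) :
    toM (monC e l) = mon (fun j => ((e.getD j.val 0 : ℕ) : ZMod 3)) (swaps l) := by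
  rw [monC, toM_ofFn2]
  ext i j : 1
  simp only [mon, Matrix.of_apply, Fin.ofNat_eq_cast, Fin.cast_val_eq_self, ← Fin.ext_iff]
  split_ifs
  · simp [wp, ZMod.val_natCast]
  · decide +kernel

theorem sign_swaps : ∀ l : List (ℕ × ℕ), (l.all fun p => !(Nat.beq (p.1 % 6) (p.2 % 6))) = true →
    Equiv.Perm.sign (swaps l) = (-1) ^ l.length
  | [], _ => by simp [swaps]
  | p :: l, h => by
    simp only [List.all_cons, Bool.and_eq_true, Bool.not_eq_true'] at h
    have hne : (Fin.ofNat 6 p.1) ≠ Fin.ofNat 6 p.2 := fun he => by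
      have hv := congrArg Fin.val he
      simp only [Fin.val_ofNat] at hv
      simp [hv] at h
    rw [swaps, List.map_cons, List.prod_cons, map_mul, Equiv.Perm.sign_swap hne, List.length_cons,
      pow_succ', show ((l.map _).prod) = swaps l from rfl, sign_swaps l h.2]

end CfsgLib.SU6Cover
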