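import Cfsg.Agent.Lib.SU6Cover.Defs

/-! Kernel checks of the remaining certificates. -/

set_option autoImplicit false
set_option maxRecDepth 100000
set_option maxHeartbeats 0

namespace CfsgLib.SU6Cover

theorem gen_ok : ∀ i : Fin 3, okGen i.val = true := by decide +kernel

theorem cand_ok : ∀ a b k : Fin 4, (a ≠ 0 ∨ b ≠ 0) → okCand a.val b.val k.val = true := by decide +kernel

theorem clash_ok : ∀ r : Fin 3, okClash r.val = true := by decide +kernel

theorem clash_idx : ∀ r : Fin 3, ((clashTab.getD r.val (0, 0, [], [], [])).1,
    (clashTab.getD r.val (0, 0, [], [], [])).2.1) = [(0, 1), (0, 2), (1, 2)].getD r.val (0, 0) := by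
  decide +kernel

theorem bd_ok : ∀ a b : Fin 4, okBd a.val b.val = true := by decide +kernel

theorem frameWord_ok : ∀ i : Fin 3, okFrameWord i.val = true := by decide +kernel

theorem frameSep_ok : ∀ i : Fin 3, okFrameSep i.val = true := by decide +kernel

end CfsgLib.SU6Cover
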