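import Cfsg.Agent.Lib.SU6Cover.Defs
import Cfsg.Agent.Lib.SchurTable.UFourThreeData

/-! Kernel checks of the relations. -/

set_option autoImplicit false
set_option maxRecDepth 100000
set_option maxHeartbeats 0

namespace CfsgLib.SU6Cover

theorem rel_ok : ∀ i : Fin 3, (CfsgLib.SchurTable.UFourThree.relWords.all fun w =>
    letOk 4 w && isScalC (evalC (letsC i.val) w)) = true := by decide +kernel

end CfsgLib.SU6Cover
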