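import Cfsg.Agent.Lib.SU6Cover.Defs

/-! Kernel checks of the words. -/

set_option autoImplicit false
set_option maxRecDepth 100000
set_option maxHeartbeats 0

namespace CfsgLib.SU6Cover

theorem words_ok : ∀ i : Fin 3, okWords i.val = true := by decide +kernel

theorem tau_ok : ∀ i : Fin 3, okTau i.val = true := by decide +kernel

theorem back_ok : ∀ i : Fin 3, okBack i.val = true := by decide +kernel

end CfsgLib.SU6Cover
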