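/-!
Tables for the three triple covers of `PSU₄(3)` inside `SU₆(2)`: matrices with entries coded by
`0, 1, 2, 3` for `0, 1, ω, ω²`, and words in them.
-/

set_option autoImplicit false

namespace CfsgLib.SU6Cover

/-- Data. -/
def tabX : List (List Nat) :=
  [[0, 1, 0, 3, 1, 0, 2, 0, 2, 0, 0, 3, 3, 0, 2, 0, 0, 2, 2, 0, 3, 0, 0, 2, 0, 2, 0, 3, 3, 0, 0, 2, 0, 2, 1, 0],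
   [0, 1, 0, 3, 1, 0, 2, 0, 2, 0, 0, 2, 3, 0, 2, 0, 0, 1, 2, 0, 3, 0, 0, 1, 0, 2, 0, 3, 3, 0, 0, 3, 0, 3, 2, 0],
   [0, 1, 0, 3, 1, 0, 2, 0, 2, 0, 0, 1, 3, 0, 2, 0, 0, 3, 2, 0, 3, 0, 0, 3, 0, 2, 0, 3, 3, 0, 0, 1, 0, 1, 3, 0]]

/-- Data. -/
def tabY : List (List Nat) :=
  [[0, 1, 1, 1, 3, 2, 2, 2, 2, 2, 0, 3, 1, 1, 1, 0, 3, 2, 3, 3, 0, 3, 2, 1, 3, 3, 3, 3, 2, 0, 2, 0, 2, 2, 1, 3],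
   [0, 1, 1, 1, 3, 1, 2, 2, 2, 2, 0, 2, 1, 1, 1, 0, 3, 1, 3, 3, 0, 3, 2, 3, 3, 3, 3, 3, 2, 0, 3, 0, 3, 3, 2, 3],
   [0, 1, 1, 1, 3, 3, 2, 2, 2, 2, 0, 1, 1, 1, 1, 0, 3, 3, 3, 3, 0, 3, 2, 2, 3, 3, 3, 3, 2, 0, 1, 0, 1, 1, 3, 3]]

/-- Data. -/
def tabH : List (List Nat) :=
  [[1, 1, 1, 0, 0, 0, 1, 2, 3, 0, 0, 0, 1, 3, 2, 0, 0, 0, 0, 0, 0, 1, 1, 1, 0, 0, 0, 1, 3, 2, 0, 0, 0, 1, 2, 3],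
   [1, 1, 1, 0, 0, 0, 1, 2, 3, 0, 0, 0, 1, 3, 2, 0, 0, 0, 0, 0, 0, 1, 1, 3, 0, 0, 0, 1, 3, 1, 0, 0, 0, 2, 3, 3],
   [1, 1, 1, 0, 0, 0, 1, 2, 3, 0, 0, 0, 1, 3, 2, 0, 0, 0, 0, 0, 0, 1, 1, 2, 0, 0, 0, 1, 3, 3, 0, 0, 0, 3, 1, 3]]

/-- Data. -/
def m0Words : List (List (List Nat)) :=
  [[[3, 3, 2, 1, 2, 1, 3, 3, 2, 1, 2, 1, 0, 1, 1, 0, 3, 2, 0, 3, 2, 1, 0, 3, 3, 3, 2, 3, 0, 3, 0],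
    [3, 0, 3, 0, 1, 1, 0, 1, 2, 3, 3, 2, 3, 3, 2, 1, 2, 1, 3, 3, 2, 1, 2, 1, 0, 3, 2, 1, 0, 3],
    [3, 3, 2, 1, 2, 1, 2, 3, 2, 1, 2, 2, 0, 1, 1, 0, 3, 2, 3, 0, 3, 0, 1, 1, 3, 0, 3, 0, 1, 1, 2, 3, 0, 1, 2, 3],
    [0, 3, 2, 1, 0, 3, 1, 2, 1, 1, 2, 1, 0, 2, 3, 0, 1, 2, 3, 3, 0, 3, 0, 1, 1, 3, 3, 2, 3, 0, 3, 0],
    [3, 3, 2, 3, 0, 3, 0, 1, 0, 3, 2, 1, 0, 3, 3, 2, 3, 0, 3, 0, 1, 0, 3, 2, 1, 0],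
    [1, 0, 3, 2, 1, 0, 3, 3, 2, 1, 2, 1, 1, 2, 1, 1, 2, 1, 0, 3, 0, 3, 0, 1, 1, 1, 2, 3, 0, 1, 2],
    [3, 3, 2, 1, 2, 1, 3, 3, 2, 1, 2, 1, 0, 1, 1, 0, 3, 2, 0, 1, 1, 0, 3, 2, 0, 0, 3, 0, 1, 0, 0, 1, 1, 0, 3, 2],
    [1, 0, 3, 2, 1, 0, 0, 1, 1, 0, 3, 2, 1, 2, 1, 1, 2, 1, 0, 3, 3, 2, 1, 2, 1, 0, 0, 3, 0, 1, 0],
    [2, 3, 2, 1, 2, 2, 0, 1, 2, 3, 3, 2, 1, 0, 3, 2, 1, 0, 0, 1, 2, 3, 3, 2, 3, 3, 2, 1, 2, 1, 0, 1, 2, 3, 3, 2]],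
   [[3, 3, 2, 1, 2, 1, 3, 3, 2, 1, 2, 1, 0, 1, 1, 0, 3, 2, 0, 3, 2, 1, 0, 3, 3, 3, 2, 3, 0, 3, 0],
    [3, 0, 3, 0, 1, 1, 0, 1, 2, 3, 3, 2, 3, 3, 2, 1, 2, 1, 3, 3, 2, 1, 2, 1, 0, 3, 2, 1, 0, 3],
    [3, 3, 2, 1, 2, 1, 2, 3, 2, 1, 2, 2, 0, 1, 1, 0, 3, 2, 3, 0, 3, 0, 1, 1, 3, 0, 3, 0, 1, 1, 2, 3, 0, 1, 2, 3],
    [0, 3, 2, 1, 0, 3, 1, 2, 1, 1, 2, 1, 0, 2, 3, 0, 1, 2, 3, 3, 0, 3, 0, 1, 1, 3, 3, 2, 3, 0, 3, 0],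
    [3, 3, 2, 3, 0, 3, 0, 1, 0, 3, 2, 1, 0, 3, 3, 2, 3, 0, 3, 0, 1, 0, 3, 2, 1, 0],
    [1, 0, 3, 2, 1, 0, 3, 3, 2, 1, 2, 1, 1, 2, 1, 1, 2, 1, 0, 3, 0, 3, 0, 1, 1, 1, 2, 3, 0, 1, 2],
    [3, 3, 2, 1, 2, 1, 3, 3, 2, 1, 2, 1, 0, 1, 1, 0, 3, 2, 0, 1, 1, 0, 3, 2, 0, 0, 3, 0, 1, 0, 0, 1, 1, 0, 3, 2],
    [1, 0, 3, 2, 1, 0, 0, 1, 1, 0, 3, 2, 1, 2, 1, 1, 2, 1, 0, 3, 3, 2, 1, 2, 1, 0, 0, 3, 0, 1, 0],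
    [0, 1, 2, 3, 3, 2, 0, 1, 2, 3, 3, 2, 2, 3, 0, 1, 2, 3, 1, 2, 1, 1, 2, 1, 0, 3, 3, 2, 3, 0, 3, 0, 0, 1, 1, 0, 3, 2]],
   [[3, 3, 2, 1, 2, 1, 3, 3, 2, 1, 2, 1, 0, 1, 1, 0, 3, 2, 0, 3, 2, 1, 0, 3, 3, 3, 2, 3, 0, 3, 0],
    [3, 0, 3, 0, 1, 1, 0, 1, 2, 3, 3, 2, 3, 3, 2, 1, 2, 1, 3, 3, 2, 1, 2, 1, 0, 3, 2, 1, 0, 3],
    [3, 3, 2, 1, 2, 1, 2, 3, 2, 1, 2, 2, 0, 1, 1, 0, 3, 2, 3, 0, 3, 0, 1, 1, 3, 0, 3, 0, 1, 1, 2, 3, 0, 1, 2, 3],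
    [0, 3, 2, 1, 0, 3, 1, 2, 1, 1, 2, 1, 0, 2, 3, 0, 1, 2, 3, 3, 0, 3, 0, 1, 1, 3, 3, 2, 3, 0, 3, 0],
    [3, 3, 2, 3, 0, 3, 0, 1, 0, 3, 2, 1, 0, 3, 3, 2, 3, 0, 3, 0, 1, 0, 3, 2, 1, 0],
    [1, 0, 3, 2, 1, 0, 3, 3, 2, 1, 2, 1, 1, 2, 1, 1, 2, 1, 0, 3, 0, 3, 0, 1, 1, 1, 2, 3, 0, 1, 2],
    [3, 3, 2, 1, 2, 1, 3, 3, 2, 1, 2, 1, 0, 1, 1, 0, 3, 2, 0, 1, 1, 0, 3, 2, 0, 0, 3, 0, 1, 0, 0, 1, 1, 0, 3, 2],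
    [1, 0, 3, 2, 1, 0, 0, 1, 1, 0, 3, 2, 1, 2, 1, 1, 2, 1, 0, 3, 3, 2, 1, 2, 1, 0, 0, 3, 0, 1, 0],
    [2, 3, 2, 1, 2, 2, 3, 3, 2, 1, 2, 1, 3, 3, 2, 3, 0, 3, 0, 1, 2, 1, 1, 2, 1, 0, 2, 3, 2, 1, 2, 2, 3, 3, 2, 1, 2, 1]]]

/-- Data. -/
def hWord : List (List Nat) :=
  [[0, 0, 1, 0, 1, 3, 0, 3, 0, 1, 1, 0, 1, 2, 3, 3, 2, 1, 2, 1, 1, 2, 1, 0, 0, 1, 1, 0, 3, 2, 1, 0, 3, 2, 1, 0],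
   [0, 0, 1, 0, 1, 3, 0, 3, 0, 1, 1, 0, 1, 2, 3, 3, 2, 1, 2, 1, 1, 2, 1, 0, 0, 1, 1, 0, 3, 2, 1, 0, 3, 2, 1, 0],
   [0, 0, 1, 0, 1, 3, 0, 3, 0, 1, 1, 0, 1, 2, 3, 3, 2, 1, 2, 1, 1, 2, 1, 0, 0, 1, 1, 0, 3, 2, 1, 0, 3, 2, 1, 0]]

/-- Data. -/
def txWord : List (List Nat) :=
  [[2, 3, 3, 2, 1, 1, 2, 1, 1, 2, 1, 0, 3, 0, 3, 0, 1, 1, 0, 1, 2, 3, 3, 2],
   [2, 3, 3, 2, 1, 1, 2, 1, 1, 2, 1, 0, 3, 0, 3, 0, 1, 1, 0, 1, 2, 3, 3, 2],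
   [2, 3, 3, 2, 1, 1, 2, 1, 1, 2, 1, 0, 3, 0, 3, 0, 1, 1, 0, 1, 2, 3, 3, 2]]

/-- Data. -/
def tyWord : List (List Nat) :=
  [[0, 1, 1, 3, 3, 2, 3, 0, 3, 0, 0, 3, 2, 1, 0, 3, 3, 0, 3, 0, 1, 1, 0, 1, 2, 3, 3, 2, 3, 3, 2, 1, 2, 1],
   [0, 1, 1, 3, 3, 2, 3, 0, 3, 0, 0, 3, 2, 1, 0, 3, 3, 0, 3, 0, 1, 1, 0, 1, 2, 3, 3, 2, 3, 3, 2, 1, 2, 1],
   [0, 1, 1, 3, 3, 2, 3, 0, 3, 0, 0, 3, 2, 1, 0, 3, 3, 0, 3, 0, 1, 1, 0, 1, 2, 3, 3, 2, 3, 3, 2, 1, 2, 1]]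

/-- Data. -/
def xWord : List (List Nat) :=
  [[15, 6, 2, 9, 0, 6, 5, 8, 4, 10],
   [15, 6, 2, 9, 0, 6, 5, 8, 10, 14],
   [15, 6, 2, 9, 0, 6, 5, 8, 10]]

/-- Data. -/
def yWord : List (List Nat) :=
  [[16, 9, 17, 9, 8, 12, 8, 6, 6, 7],
   [16, 9, 17, 9, 6, 8, 8, 6, 2, 6],
   [16, 9, 17, 9, 4, 8, 12, 8, 6, 6, 7]]

/-- Data. -/
def frameWords : List (List (List Nat)) :=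
  [[[],
    [0],
    [1],
    [2],
    [3],
    [0, 0],
    [1, 0],
    [3, 0],
    [0, 1],
    [1, 1],
    [2, 1],
    [1, 2],
    [2, 2],
    [3, 2],
    [0, 3],
    [2, 3],
    [3, 3],
    [1, 0, 0],
    [3, 0, 0],
    [0, 1, 0],
    [1, 1, 0],
    [2, 1, 0],
    [0, 3, 0],
    [2, 3, 0],
    [3, 3, 0],
    [0, 0, 1],
    [1, 0, 1],
    [3, 0, 1],
    [0, 1, 1],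
    [1, 1, 1],
    [2, 1, 1],
    [2, 2, 1],
    [3, 2, 1],
    [0, 1, 2],
    [1, 1, 2],
    [2, 1, 2],
    [3, 2, 2],
    [0, 3, 2],
    [2, 3, 2],
    [0, 0, 3],
    [3, 0, 3],
    [2, 2, 3],
    [3, 2, 3],
    [0, 3, 3],
    [2, 3, 3],
    [3, 3, 3],
    [0, 1, 0, 0],
    [1, 1, 0, 0],
    [2, 1, 0, 0],
    [0, 3, 0, 0],
    [2, 3, 0, 0],
    [3, 3, 0, 0],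
    [0, 0, 1, 0],
    [1, 0, 1, 0],
    [0, 1, 1, 0],
    [1, 1, 1, 0],
    [2, 2, 1, 0]],
   [[],
    [0],
    [1],
    [2],
    [3],
    [0, 0],
    [1, 0],
    [3, 0],
    [0, 1],
    [1, 1],
    [2, 1],
    [1, 2],
    [2, 2],
    [3, 2],
    [0, 3],
    [2, 3],
    [3, 3],
    [1, 0, 0],
    [3, 0, 0],
    [0, 1, 0],
    [1, 1, 0],
    [2, 1, 0],
    [0, 3, 0],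
    [2, 3, 0],
    [3, 3, 0],
    [0, 0, 1],
    [1, 0, 1],
    [3, 0, 1],
    [0, 1, 1],
    [1, 1, 1],
    [2, 1, 1],
    [2, 2, 1],
    [3, 2, 1],
    [0, 1, 2],
    [1, 1, 2],
    [2, 1, 2],
    [3, 2, 2],
    [0, 3, 2],
    [2, 3, 2],
    [0, 0, 3],
    [3, 0, 3],
    [2, 2, 3],
    [3, 2, 3],
    [0, 3, 3],
    [2, 3, 3],
    [3, 3, 3],
    [0, 1, 0, 0],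
    [1, 1, 0, 0],
    [2, 1, 0, 0],
    [0, 3, 0, 0],
    [2, 3, 0, 0],
    [3, 3, 0, 0],
    [0, 0, 1, 0],
    [1, 0, 1, 0],
    [0, 1, 1, 0],
    [1, 1, 1, 0],
    [2, 2, 1, 0]],
   [[],
    [0],
    [1],
    [2],
    [3],
    [0, 0],
    [1, 0],
    [3, 0],
    [0, 1],
    [1, 1],
    [2, 1],
    [1, 2],
    [2, 2],
    [3, 2],
    [0, 3],
    [2, 3],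
    [3, 3],
    [1, 0, 0],
    [3, 0, 0],
    [0, 1, 0],
    [1, 1, 0],
    [2, 1, 0],
    [0, 3, 0],
    [2, 3, 0],
    [3, 3, 0],
    [0, 0, 1],
    [1, 0, 1],
    [3, 0, 1],
    [0, 1, 1],
    [1, 1, 1],
    [2, 1, 1],
    [2, 2, 1],
    [3, 2, 1],
    [0, 1, 2],
    [1, 1, 2],
    [2, 1, 2],
    [3, 2, 2],
    [0, 3, 2],
    [2, 3, 2],
    [0, 0, 3],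
    [3, 0, 3],
    [2, 2, 3],
    [3, 2, 3],
    [0, 3, 3],
    [2, 3, 3],
    [3, 3, 3],
    [0, 1, 0, 0],
    [1, 1, 0, 0],
    [2, 1, 0, 0],
    [0, 3, 0, 0],
    [2, 3, 0, 0],
    [3, 3, 0, 0],
    [0, 0, 1, 0],
    [1, 0, 1, 0],
    [0, 1, 1, 0],
    [1, 1, 1, 0],
    [2, 2, 1, 0]]]

/-- Data. -/
def tabR : List (List Nat) :=
  [[1, 0, 0, 0, 1, 0, 0, 0, 1],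
   [1, 1, 1, 1, 2, 3, 1, 3, 2],
   [1, 1, 2, 1, 2, 1, 3, 2, 2],
   [1, 1, 3, 1, 2, 2, 2, 1, 2]]

/-- Data. -/
def candTab : List (Nat × Nat × Nat × Nat × List Nat × List Nat × List (Nat × Nat)) :=
  [(0, 1, 0, 3, [0, 0], [0, 0, 0, 0, 0, 0], [(4, 5)]),
   (0, 1, 1, 3, [0, 0], [0, 0, 0, 0, 0, 0], [(4, 5)]),
   (0, 1, 2, 3, [0, 0], [0, 0, 0, 1, 0, 2], [(3, 4)]),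
   (0, 1, 3, 3, [0, 0], [0, 0, 0, 1, 0, 2], [(3, 4)]),
   (0, 2, 0, 3, [0, 0], [0, 0, 0, 0, 2, 1], [(4, 5)]),
   (0, 2, 1, 3, [0, 0], [0, 0, 0, 0, 2, 1], [(4, 5)]),
   (0, 2, 2, 3, [0, 0], [0, 0, 0, 1, 0, 2], [(3, 4)]),
   (0, 2, 3, 3, [0, 0], [0, 0, 0, 1, 0, 2], [(3, 4)]),
   (0, 3, 0, 3, [0, 0], [0, 0, 0, 0, 1, 2], [(4, 5)]),
   (0, 3, 1, 3, [0, 0], [0, 0, 0, 0, 1, 2], [(4, 5)]),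
   (0, 3, 2, 3, [0, 0], [0, 0, 0, 1, 0, 2], [(3, 4)]),
   (0, 3, 3, 3, [0, 0], [0, 0, 0, 1, 0, 2], [(3, 4)]),
   (1, 0, 0, 3, [0, 0], [0, 0, 0, 0, 0, 0], [(1, 2)]),
   (1, 0, 1, 3, [0, 0], [1, 0, 2, 0, 0, 0], [(0, 1)]),
   (1, 0, 2, 3, [0, 0], [0, 0, 0, 0, 0, 0], [(1, 2)]),
   (1, 0, 3, 3, [0, 0], [1, 0, 2, 0, 0, 0], [(0, 1)]),
   (1, 1, 0, 3, [0, 3, 0, 3, 0], [1, 1, 0, 1, 0, 0], [(4, 5)]),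
   (1, 1, 1, 0, [0, 0, 6, 0], [], []),
   (1, 1, 2, 0, [0, 7], [], []),
   (1, 1, 3, 3, [0, 3, 0, 3, 0], [2, 1, 2, 0, 2, 2], [(0, 1)]),
   (1, 2, 0, 3, [0, 3, 0, 3, 0], [1, 1, 0, 1, 2, 1], [(4, 5)]),
   (1, 2, 1, 2, [0, 0, 6, 0], [], []),
   (1, 2, 2, 2, [5, 5, 0], [], []),
   (1, 2, 3, 3, [0, 3, 0, 3, 0], [2, 1, 2, 0, 2, 2], [(0, 1)]),
   (1, 3, 0, 3, [0, 3, 0, 3, 0], [1, 1, 0, 1, 1, 2], [(4, 5)]),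
   (1, 3, 1, 1, [0, 0, 6, 0], [], []),
   (1, 3, 2, 1, [0, 7, 5], [], []),
   (1, 3, 3, 3, [0, 3, 0, 3, 0], [2, 1, 2, 0, 2, 2], [(0, 1)]),
   (2, 0, 0, 3, [0, 0], [0, 2, 1, 0, 0, 0], [(1, 2)]),
   (2, 0, 1, 3, [0, 0], [1, 0, 2, 0, 0, 0], [(0, 1)]),
   (2, 0, 2, 3, [0, 0], [0, 2, 1, 0, 0, 0], [(1, 2)]),
   (2, 0, 3, 3, [0, 0], [1, 0, 2, 0, 0, 0], [(0, 1)]),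
   (2, 1, 0, 3, [0, 3, 0, 3, 0], [1, 1, 0, 1, 0, 0], [(4, 5)]),
   (2, 1, 1, 2, [0, 3, 3, 7, 0, 2, 7, 3], [], []),
   (2, 1, 2, 2, [7, 3, 0, 3, 3], [], []),
   (2, 1, 3, 3, [0, 3, 0, 3, 0], [2, 1, 2, 0, 2, 2], [(0, 1)]),
   (2, 2, 0, 3, [0, 3, 0, 3, 0], [1, 1, 0, 1, 2, 1], [(4, 5)]),
   (2, 2, 1, 1, [0, 3, 3, 7, 0, 2, 3], [], []),
   (2, 2, 2, 1, [3, 0, 3, 3, 7, 7], [], []),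
   (2, 2, 3, 3, [0, 3, 0, 3, 0], [2, 1, 2, 0, 2, 2], [(0, 1)]),
   (2, 3, 0, 3, [0, 3, 0, 3, 0], [1, 1, 0, 1, 1, 2], [(4, 5)]),
   (2, 3, 1, 0, [0, 3, 3, 0, 2, 3, 5, 7], [], []),
   (2, 3, 2, 0, [3, 5, 0, 3, 3, 5], [], []),
   (2, 3, 3, 3, [0, 3, 0, 3, 0], [2, 1, 2, 0, 2, 2], [(0, 1)]),
   (3, 0, 0, 3, [0, 0], [0, 1, 2, 0, 0, 0], [(1, 2)]),
   (3, 0, 1, 3, [0, 0], [1, 0, 2, 0, 0, 0], [(0, 1)]),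
   (3, 0, 2, 3, [0, 0], [0, 1, 2, 0, 0, 0], [(1, 2)]),
   (3, 0, 3, 3, [0, 0], [1, 0, 2, 0, 0, 0], [(0, 1)]),
   (3, 1, 0, 3, [0, 3, 0, 3, 0], [1, 1, 0, 1, 0, 0], [(4, 5)]),
   (3, 1, 1, 1, [0, 4, 0, 6, 3, 3, 0, 3], [], []),
   (3, 1, 2, 1, [3, 3, 0, 3, 5, 5], [], []),
   (3, 1, 3, 3, [0, 3, 0, 3, 0], [2, 1, 2, 0, 2, 2], [(0, 1)]),
   (3, 2, 0, 3, [0, 3, 0, 3, 0], [1, 1, 0, 1, 2, 1], [(4, 5)]),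
   (3, 2, 1, 0, [0, 0, 6, 3, 7, 3, 0, 3], [], []),
   (3, 2, 2, 0, [3, 3, 0, 3, 5, 5], [], []),
   (3, 2, 3, 3, [0, 3, 0, 3, 0], [2, 1, 2, 0, 2, 2], [(0, 1)]),
   (3, 3, 0, 3, [0, 3, 0, 3, 0], [1, 1, 0, 1, 1, 2], [(4, 5)]),
   (3, 3, 1, 2, [0, 4, 0, 6, 3, 3, 0, 3], [], []),
   (3, 3, 2, 2, [3, 3, 0, 3, 5, 5], [], []),
   (3, 3, 3, 3, [0, 3, 0, 3, 0], [2, 1, 2, 0, 2, 2], [(0, 1)])]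

/-- Data. -/
def clashTab : List (Nat × Nat × List Nat × List Nat × List (Nat × Nat)) :=
  [(0, 1, [0, 1, 0, 1], [0, 0, 0, 1, 1, 1], [(3, 4)]),
   (0, 2, [0, 1, 0, 1], [0, 0, 0, 1, 2, 0], [(4, 5)]),
   (1, 2, [0, 1, 0, 1], [0, 0, 0, 1, 1, 1], [(3, 4)])]

end CfsgLib.SU6Cover
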