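/-!
Representatives of fifty-seven cosets of the monomial subgroup, evaluated.
-/

set_option autoImplicit false

namespace CfsgLib.SU6Cover

/-- Data. -/
def frameTab : List (List (List Nat)) :=
  [[[1, 0, 0, 0, 0, 0, 0, 1, 0, 0, 0, 0, 0, 0, 1, 0, 0, 0, 0, 0, 0, 1, 0, 0, 0, 0, 0, 0, 1, 0, 0, 0, 0, 0, 0, 1],
    [0, 1, 0, 3, 1, 0, 2, 0, 2, 0, 0, 3, 3, 0, 2, 0, 0, 2, 2, 0, 3, 0, 0, 2, 0, 2, 0, 3, 3, 0, 0, 2, 0, 2, 1, 0],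
    [0, 1, 1, 1, 3, 2, 2, 2, 2, 2, 0, 3, 1, 1, 1, 0, 3, 2, 3, 3, 0, 3, 2, 1, 3, 3, 3, 3, 2, 0, 2, 0, 2, 2, 1, 3],
    [0, 3, 2, 3, 0, 0, 1, 0, 0, 0, 3, 3, 0, 3, 3, 2, 0, 0, 2, 0, 0, 0, 2, 3, 1, 0, 0, 0, 2, 1, 0, 2, 3, 3, 0, 0],
    [0, 3, 1, 2, 2, 3, 1, 3, 1, 2, 2, 0, 1, 3, 1, 0, 2, 3, 1, 3, 0, 2, 2, 3, 2, 0, 2, 3, 3, 1, 3, 2, 3, 1, 0, 2],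
    [3, 2, 0, 3, 3, 2, 1, 3, 3, 0, 1, 3, 1, 0, 3, 1, 1, 3, 2, 1, 1, 2, 0, 1, 2, 1, 1, 2, 2, 0, 0, 2, 2, 3, 3, 2],
    [3, 2, 3, 1, 0, 3, 1, 3, 1, 0, 1, 1, 1, 3, 0, 2, 1, 1, 0, 2, 3, 1, 3, 3, 2, 0, 2, 3, 2, 2, 2, 1, 2, 3, 2, 0],
    [1, 2, 2, 0, 2, 3, 1, 2, 2, 2, 0, 3, 2, 3, 3, 3, 3, 0, 2, 3, 0, 3, 3, 1, 0, 1, 1, 1, 1, 2, 3, 0, 1, 1, 1, 2],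
    [3, 3, 1, 3, 3, 0, 3, 0, 1, 3, 3, 2, 1, 1, 2, 0, 1, 3, 0, 1, 2, 1, 1, 3, 3, 3, 1, 3, 0, 2, 1, 1, 0, 1, 1, 3],
    [1, 2, 2, 0, 2, 1, 1, 2, 2, 1, 0, 1, 2, 0, 3, 2, 3, 2, 0, 1, 1, 3, 1, 3, 1, 2, 0, 1, 2, 1, 1, 2, 2, 1, 2, 0],
    [1, 1, 3, 3, 0, 2, 3, 3, 2, 2, 1, 0, 3, 3, 2, 0, 1, 1, 0, 3, 2, 2, 1, 1, 3, 0, 2, 2, 1, 1, 2, 2, 0, 1, 3, 3],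
    [0, 0, 2, 3, 0, 3, 1, 1, 0, 0, 2, 0, 2, 3, 0, 0, 2, 0, 0, 0, 2, 1, 0, 2, 0, 0, 3, 3, 0, 2, 2, 1, 0, 0, 1, 0],
    [2, 1, 1, 3, 3, 0, 3, 2, 0, 1, 1, 3, 0, 2, 2, 1, 1, 3, 2, 0, 1, 3, 3, 2, 2, 1, 1, 0, 3, 2, 3, 2, 2, 1, 0, 3],
    [2, 2, 1, 0, 2, 1, 2, 0, 1, 1, 2, 1, 1, 1, 3, 3, 1, 0, 2, 2, 0, 1, 2, 1, 2, 2, 1, 1, 0, 1, 0, 3, 2, 2, 3, 2],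
    [0, 1, 3, 0, 0, 3, 0, 1, 2, 0, 0, 1, 3, 0, 0, 3, 2, 0, 2, 0, 0, 1, 2, 0, 0, 3, 3, 0, 0, 1, 2, 0, 0, 3, 3, 0],
    [2, 1, 1, 0, 3, 3, 3, 2, 2, 3, 0, 1, 2, 1, 0, 2, 3, 3, 1, 0, 3, 1, 2, 2, 0, 1, 1, 2, 3, 3, 2, 1, 1, 2, 3, 0],
    [1, 1, 3, 0, 1, 1, 3, 3, 0, 1, 3, 3, 3, 3, 2, 1, 0, 3, 0, 1, 3, 2, 1, 1, 3, 0, 2, 1, 3, 3, 1, 1, 3, 2, 1, 0],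
    [3, 2, 1, 3, 0, 2, 2, 1, 3, 2, 3, 0, 2, 1, 0, 2, 3, 1, 3, 0, 1, 3, 1, 2, 0, 2, 1, 3, 1, 2, 2, 1, 3, 0, 3, 1],
    [2, 3, 0, 3, 3, 2, 1, 0, 1, 2, 2, 1, 2, 3, 2, 3, 0, 2, 0, 1, 3, 1, 1, 3, 3, 1, 3, 0, 1, 3, 1, 2, 1, 2, 2, 0],
    [3, 2, 1, 0, 1, 1, 2, 1, 0, 3, 3, 3, 3, 2, 1, 1, 1, 0, 1, 3, 2, 2, 0, 2, 3, 0, 1, 1, 1, 1, 0, 2, 1, 1, 1, 1],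
    [2, 0, 0, 0, 1, 2, 0, 3, 3, 1, 0, 0, 1, 0, 0, 0, 2, 2, 0, 3, 2, 2, 0, 0, 1, 0, 0, 0, 1, 3, 0, 2, 3, 2, 0, 0],
    [1, 2, 1, 0, 3, 3, 3, 1, 3, 1, 0, 2, 0, 3, 2, 3, 1, 1, 3, 0, 3, 1, 2, 2, 2, 3, 2, 3, 1, 0, 1, 2, 0, 2, 3, 3],
    [0, 1, 3, 1, 3, 2, 3, 2, 1, 2, 1, 0, 1, 0, 2, 3, 2, 1, 2, 1, 3, 0, 3, 2, 3, 2, 0, 2, 1, 3, 1, 3, 2, 3, 0, 1],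
    [1, 2, 0, 2, 3, 1, 3, 1, 2, 0, 2, 3, 1, 2, 3, 2, 3, 0, 0, 1, 2, 1, 2, 3, 2, 0, 1, 3, 1, 2, 2, 3, 1, 3, 0, 2],
    [0, 1, 3, 2, 3, 2, 3, 3, 2, 1, 2, 0, 2, 2, 1, 3, 0, 3, 3, 0, 2, 1, 2, 1, 3, 3, 0, 1, 2, 1, 3, 3, 2, 0, 2, 1],
    [0, 0, 1, 3, 0, 2, 0, 0, 1, 2, 0, 3, 2, 2, 0, 0, 2, 0, 0, 0, 3, 3, 0, 3, 3, 1, 0, 0, 2, 0, 2, 1, 0, 0, 3, 0],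
    [2, 0, 2, 2, 1, 2, 1, 2, 0, 1, 3, 1, 1, 2, 1, 0, 3, 1, 0, 1, 3, 3, 2, 3, 2, 3, 2, 2, 0, 2, 3, 1, 3, 3, 2, 0],
    [1, 1, 0, 2, 2, 2, 1, 1, 1, 2, 2, 0, 2, 0, 2, 3, 3, 3, 3, 3, 3, 1, 0, 1, 0, 3, 3, 1, 1, 1, 2, 2, 2, 0, 3, 3],
    [0, 3, 1, 2, 1, 2, 2, 2, 3, 0, 3, 1, 2, 2, 3, 1, 3, 0, 1, 0, 2, 3, 2, 3, 1, 1, 0, 3, 2, 3, 3, 3, 1, 2, 0, 2],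
    [2, 1, 3, 1, 0, 3, 0, 3, 2, 3, 1, 2, 3, 2, 0, 2, 3, 1, 3, 2, 1, 2, 3, 0, 3, 0, 1, 2, 3, 1, 3, 2, 1, 0, 3, 1],
    [0, 2, 3, 2, 2, 2, 1, 2, 3, 0, 2, 2, 2, 3, 1, 3, 0, 3, 3, 1, 2, 1, 1, 0, 2, 3, 0, 3, 3, 3, 3, 0, 2, 1, 1, 1],
    [3, 1, 3, 0, 2, 1, 2, 0, 2, 1, 1, 3, 0, 1, 3, 2, 2, 1, 2, 3, 2, 1, 0, 3, 2, 3, 0, 1, 1, 3, 3, 1, 3, 2, 2, 0],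
    [1, 1, 3, 2, 0, 3, 1, 1, 0, 2, 2, 3, 0, 1, 3, 2, 2, 3, 3, 3, 2, 1, 1, 0, 3, 3, 2, 0, 1, 2, 3, 0, 2, 1, 1, 2],
    [1, 1, 2, 0, 2, 3, 2, 2, 3, 1, 0, 1, 0, 3, 1, 2, 1, 2, 2, 0, 3, 1, 3, 1, 2, 2, 3, 1, 3, 0, 2, 2, 0, 1, 3, 1],
    [0, 0, 0, 3, 2, 3, 0, 0, 0, 3, 3, 2, 0, 0, 0, 1, 2, 2, 1, 2, 1, 0, 0, 0, 2, 1, 1, 0, 0, 0, 2, 2, 3, 0, 0, 0],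
    [0, 2, 1, 3, 2, 1, 1, 3, 0, 1, 3, 2, 2, 1, 3, 2, 0, 3, 1, 3, 2, 0, 3, 2, 2, 1, 3, 2, 1, 0, 3, 0, 1, 3, 2, 1],
    [0, 0, 3, 0, 2, 3, 0, 0, 3, 0, 1, 1, 1, 1, 0, 2, 0, 0, 2, 3, 0, 2, 0, 0, 0, 0, 3, 0, 3, 2, 3, 2, 0, 2, 0, 0],
    [1, 3, 0, 3, 3, 3, 1, 3, 2, 0, 3, 3, 3, 2, 1, 2, 2, 0, 0, 1, 3, 1, 1, 1, 3, 0, 1, 2, 2, 2, 2, 1, 3, 1, 0, 1],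
    [2, 3, 2, 1, 2, 0, 3, 1, 3, 2, 0, 3, 1, 0, 1, 3, 1, 1, 0, 2, 1, 3, 1, 1, 1, 2, 1, 0, 1, 1, 1, 2, 0, 3, 1, 1],
    [1, 2, 1, 3, 1, 0, 0, 2, 1, 3, 1, 1, 2, 3, 2, 0, 2, 2, 1, 2, 1, 3, 0, 1, 1, 0, 1, 3, 1, 1, 3, 1, 0, 2, 3, 3],
    [1, 2, 0, 3, 3, 1, 0, 3, 3, 1, 1, 2, 2, 3, 3, 1, 0, 2, 2, 3, 3, 0, 1, 2, 2, 0, 3, 1, 1, 2, 3, 1, 1, 2, 2, 0],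
    [2, 3, 3, 2, 0, 3, 3, 1, 1, 0, 3, 1, 1, 2, 0, 1, 1, 2, 2, 3, 3, 2, 2, 0, 0, 2, 2, 1, 1, 2, 3, 0, 1, 3, 3, 1],
    [3, 1, 1, 0, 3, 2, 0, 3, 3, 1, 2, 1, 3, 0, 1, 2, 3, 2, 3, 1, 0, 2, 3, 2, 1, 2, 2, 3, 0, 3, 3, 1, 1, 2, 3, 0],
    [0, 0, 0, 1, 3, 3, 0, 0, 0, 3, 1, 3, 0, 0, 0, 1, 1, 2, 2, 2, 1, 0, 0, 0, 3, 2, 3, 0, 0, 0, 2, 3, 3, 0, 0, 0],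
    [3, 0, 1, 0, 1, 0, 0, 2, 0, 2, 0, 3, 0, 2, 0, 3, 0, 2, 0, 1, 0, 3, 0, 3, 1, 0, 3, 0, 1, 0, 3, 0, 3, 0, 2, 0],
    [3, 0, 2, 2, 2, 2, 1, 2, 3, 3, 0, 3, 2, 3, 0, 1, 1, 1, 1, 2, 3, 3, 3, 0, 0, 1, 2, 2, 2, 2, 2, 3, 1, 0, 1, 1],
    [0, 3, 1, 3, 1, 3, 3, 2, 0, 2, 3, 2, 2, 1, 2, 1, 0, 1, 3, 2, 3, 0, 3, 2, 1, 3, 1, 3, 1, 0, 2, 0, 2, 1, 2, 1],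
    [0, 3, 0, 1, 3, 0, 1, 0, 3, 0, 0, 1, 0, 1, 0, 1, 2, 0, 3, 0, 3, 0, 0, 2, 0, 2, 0, 1, 1, 0, 2, 0, 3, 0, 0, 3],
    [0, 1, 1, 0, 0, 3, 2, 0, 0, 1, 1, 0, 1, 0, 0, 1, 2, 0, 0, 3, 2, 0, 0, 3, 1, 0, 0, 2, 1, 0, 0, 1, 2, 0, 0, 2],
    [2, 2, 0, 1, 0, 0, 3, 1, 0, 1, 0, 0, 0, 0, 1, 0, 1, 2, 0, 0, 3, 0, 2, 2, 0, 0, 2, 0, 3, 2, 1, 3, 0, 1, 0, 0],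
    [0, 2, 2, 3, 2, 2, 3, 1, 1, 2, 1, 0, 2, 0, 3, 1, 3, 3, 1, 2, 2, 0, 2, 2, 2, 3, 0, 1, 3, 3, 3, 1, 1, 2, 0, 1],
    [3, 2, 2, 1, 0, 1, 2, 0, 1, 3, 2, 3, 1, 3, 3, 0, 1, 2, 3, 2, 0, 1, 3, 1, 3, 2, 2, 1, 3, 0, 0, 2, 2, 1, 3, 1],
    [2, 3, 0, 3, 2, 3, 0, 1, 3, 1, 3, 1, 3, 1, 3, 0, 3, 1, 3, 1, 3, 1, 3, 0, 2, 0, 2, 3, 2, 3, 2, 3, 2, 3, 0, 3],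
    [2, 3, 2, 1, 3, 0, 1, 2, 0, 3, 2, 3, 0, 2, 1, 3, 2, 3, 1, 2, 1, 0, 2, 3, 3, 1, 3, 2, 0, 2, 1, 0, 1, 3, 2, 3],
    [1, 1, 2, 0, 1, 3, 1, 1, 2, 1, 1, 0, 3, 3, 1, 3, 0, 2, 0, 3, 1, 3, 3, 2, 3, 3, 0, 3, 3, 2, 1, 0, 2, 1, 1, 3],
    [2, 3, 0, 0, 1, 0, 1, 1, 0, 0, 1, 0, 0, 0, 2, 2, 0, 2, 3, 2, 0, 0, 1, 0, 0, 0, 3, 2, 0, 1, 0, 0, 1, 2, 0, 3],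
    [0, 2, 3, 1, 3, 2, 3, 1, 0, 3, 2, 1, 3, 1, 2, 3, 0, 1, 2, 3, 1, 0, 1, 3, 3, 1, 2, 3, 2, 0, 3, 0, 2, 3, 2, 1]],
   [[1, 0, 0, 0, 0, 0, 0, 1, 0, 0, 0, 0, 0, 0, 1, 0, 0, 0, 0, 0, 0, 1, 0, 0, 0, 0, 0, 0, 1, 0, 0, 0, 0, 0, 0, 1],
    [0, 1, 0, 3, 1, 0, 2, 0, 2, 0, 0, 2, 3, 0, 2, 0, 0, 1, 2, 0, 3, 0, 0, 1, 0, 2, 0, 3, 3, 0, 0, 3, 0, 3, 2, 0],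
    [0, 1, 1, 1, 3, 1, 2, 2, 2, 2, 0, 2, 1, 1, 1, 0, 3, 1, 3, 3, 0, 3, 2, 3, 3, 3, 3, 3, 2, 0, 3, 0, 3, 3, 2, 3],
    [0, 3, 2, 3, 0, 0, 1, 0, 0, 0, 3, 2, 0, 3, 3, 2, 0, 0, 2, 0, 0, 0, 2, 2, 1, 0, 0, 0, 2, 3, 0, 3, 1, 1, 0, 0],
    [0, 3, 1, 2, 2, 2, 1, 3, 1, 2, 2, 0, 1, 3, 1, 0, 2, 2, 1, 3, 0, 2, 2, 2, 2, 0, 2, 3, 3, 3, 1, 3, 1, 2, 0, 2],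
    [3, 2, 0, 3, 3, 1, 1, 3, 3, 0, 1, 2, 1, 0, 3, 1, 1, 2, 2, 1, 1, 2, 0, 3, 2, 1, 1, 2, 2, 0, 0, 3, 3, 1, 1, 2],
    [3, 2, 3, 1, 0, 2, 1, 3, 1, 0, 1, 3, 1, 3, 0, 2, 1, 3, 0, 2, 3, 1, 3, 2, 2, 0, 2, 3, 2, 1, 3, 2, 3, 1, 3, 0],
    [1, 2, 2, 0, 2, 2, 1, 2, 2, 2, 0, 2, 2, 3, 3, 3, 3, 0, 2, 3, 0, 3, 3, 3, 0, 1, 1, 1, 1, 1, 1, 0, 2, 2, 2, 2],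
    [3, 3, 1, 3, 3, 0, 3, 0, 1, 3, 3, 1, 1, 1, 2, 0, 1, 2, 0, 1, 2, 1, 1, 2, 3, 3, 1, 3, 0, 1, 2, 2, 0, 2, 2, 3],
    [1, 2, 2, 0, 2, 3, 1, 2, 2, 1, 0, 3, 2, 0, 3, 2, 3, 1, 0, 1, 1, 3, 1, 2, 1, 2, 0, 1, 2, 3, 2, 3, 3, 2, 3, 0],
    [1, 1, 3, 3, 0, 1, 3, 3, 2, 2, 1, 0, 3, 3, 2, 0, 1, 3, 0, 3, 2, 2, 1, 3, 3, 0, 2, 2, 1, 3, 3, 3, 0, 2, 1, 3],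
    [0, 0, 2, 3, 0, 2, 1, 1, 0, 0, 2, 0, 2, 3, 0, 0, 2, 0, 0, 0, 2, 1, 0, 1, 0, 0, 3, 3, 0, 1, 3, 2, 0, 0, 2, 0],
    [2, 1, 1, 3, 3, 0, 3, 2, 0, 1, 1, 2, 0, 2, 2, 1, 1, 2, 2, 0, 1, 3, 3, 1, 2, 1, 1, 0, 3, 1, 1, 3, 3, 2, 0, 3],
    [2, 2, 1, 0, 2, 3, 2, 0, 1, 1, 2, 3, 1, 1, 3, 3, 1, 0, 2, 2, 0, 1, 2, 3, 2, 2, 1, 1, 0, 3, 0, 1, 3, 3, 1, 2],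
    [0, 1, 3, 0, 0, 2, 0, 1, 2, 0, 0, 3, 3, 0, 0, 3, 2, 0, 2, 0, 0, 1, 2, 0, 0, 3, 3, 0, 0, 3, 3, 0, 0, 1, 1, 0],
    [2, 1, 1, 0, 3, 2, 3, 2, 2, 3, 0, 3, 2, 1, 0, 2, 3, 2, 1, 0, 3, 1, 2, 1, 0, 1, 1, 2, 3, 2, 3, 2, 2, 3, 1, 0],
    [1, 1, 3, 0, 1, 3, 3, 3, 0, 1, 3, 2, 3, 3, 2, 1, 0, 2, 0, 1, 3, 2, 1, 3, 3, 0, 2, 1, 3, 2, 2, 2, 1, 3, 2, 0],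
    [3, 2, 1, 3, 0, 1, 2, 1, 3, 2, 3, 0, 2, 1, 0, 2, 3, 3, 3, 0, 1, 3, 1, 1, 0, 2, 1, 3, 1, 1, 3, 2, 1, 0, 1, 1],
    [2, 3, 0, 3, 3, 1, 1, 0, 1, 2, 2, 3, 2, 3, 2, 3, 0, 1, 0, 1, 3, 1, 1, 2, 3, 1, 3, 0, 1, 2, 2, 3, 2, 3, 3, 0],
    [3, 2, 1, 0, 1, 3, 2, 1, 0, 3, 3, 2, 3, 2, 1, 1, 1, 0, 1, 3, 2, 2, 0, 1, 3, 0, 1, 1, 1, 3, 0, 3, 2, 2, 2, 1],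
    [2, 0, 0, 0, 1, 1, 0, 3, 3, 1, 0, 0, 1, 0, 0, 0, 2, 1, 0, 3, 2, 2, 0, 0, 1, 0, 0, 0, 1, 2, 0, 3, 1, 3, 0, 0],
    [1, 2, 1, 0, 3, 2, 3, 1, 3, 1, 0, 1, 0, 3, 2, 3, 1, 3, 3, 0, 3, 1, 2, 1, 2, 3, 2, 3, 1, 0, 2, 3, 0, 3, 1, 3],
    [0, 1, 3, 1, 3, 1, 3, 2, 1, 2, 1, 0, 1, 0, 2, 3, 2, 3, 2, 1, 3, 0, 3, 1, 3, 2, 0, 2, 1, 2, 2, 1, 3, 1, 0, 1],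
    [1, 2, 0, 2, 3, 3, 3, 1, 2, 0, 2, 2, 1, 2, 3, 2, 3, 0, 0, 1, 2, 1, 2, 2, 2, 0, 1, 3, 1, 1, 3, 1, 2, 1, 0, 2],
    [0, 1, 3, 2, 3, 1, 3, 3, 2, 1, 2, 0, 2, 2, 1, 3, 0, 2, 3, 0, 2, 1, 2, 3, 3, 3, 0, 1, 2, 3, 1, 1, 3, 0, 3, 1],
    [0, 0, 1, 3, 0, 1, 0, 0, 1, 2, 0, 2, 2, 2, 0, 0, 2, 0, 0, 0, 3, 3, 0, 2, 3, 1, 0, 0, 2, 0, 3, 2, 0, 0, 1, 0],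
    [2, 0, 2, 2, 1, 1, 1, 2, 0, 1, 3, 3, 1, 2, 1, 0, 3, 3, 0, 1, 3, 3, 2, 2, 2, 3, 2, 2, 0, 1, 1, 2, 1, 1, 3, 0],
    [1, 1, 0, 2, 2, 1, 1, 1, 1, 2, 2, 0, 2, 0, 2, 3, 3, 2, 3, 3, 3, 1, 0, 3, 0, 3, 3, 1, 1, 3, 3, 3, 3, 0, 1, 3],
    [0, 3, 1, 2, 1, 1, 2, 2, 3, 0, 3, 3, 2, 2, 3, 1, 3, 0, 1, 0, 2, 3, 2, 2, 1, 1, 0, 3, 2, 2, 1, 1, 2, 3, 0, 2],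
    [2, 1, 3, 1, 0, 2, 0, 3, 2, 3, 1, 1, 3, 2, 0, 2, 3, 3, 3, 2, 1, 2, 3, 0, 3, 0, 1, 2, 3, 3, 1, 3, 2, 0, 1, 1],
    [0, 2, 3, 2, 2, 1, 1, 2, 3, 0, 2, 1, 2, 3, 1, 3, 0, 2, 3, 1, 2, 1, 1, 0, 2, 3, 0, 3, 3, 2, 1, 0, 3, 2, 2, 1],
    [3, 1, 3, 0, 2, 3, 2, 0, 2, 1, 1, 2, 0, 1, 3, 2, 2, 3, 2, 3, 2, 1, 0, 2, 2, 3, 0, 1, 1, 2, 1, 2, 1, 3, 3, 0],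
    [1, 1, 3, 2, 0, 2, 1, 1, 0, 2, 2, 2, 0, 1, 3, 2, 2, 2, 3, 3, 2, 1, 1, 0, 3, 3, 2, 0, 1, 1, 1, 0, 3, 2, 2, 2],
    [1, 1, 2, 0, 2, 2, 2, 2, 3, 1, 0, 3, 0, 3, 1, 2, 1, 1, 2, 0, 3, 1, 3, 3, 2, 2, 3, 1, 3, 0, 3, 3, 0, 2, 1, 1],
    [0, 0, 0, 3, 2, 2, 0, 0, 0, 3, 3, 1, 0, 0, 0, 1, 2, 1, 1, 2, 1, 0, 0, 0, 2, 1, 1, 0, 0, 0, 3, 3, 1, 0, 0, 0],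
    [0, 2, 1, 3, 2, 3, 1, 3, 0, 1, 3, 1, 2, 1, 3, 2, 0, 2, 1, 3, 2, 0, 3, 1, 2, 1, 3, 2, 1, 0, 1, 0, 2, 1, 3, 1],
    [0, 0, 3, 0, 2, 2, 0, 0, 3, 0, 1, 3, 1, 1, 0, 2, 0, 0, 2, 3, 0, 2, 0, 0, 0, 0, 3, 0, 3, 1, 1, 3, 0, 3, 0, 0],
    [1, 3, 0, 3, 3, 2, 1, 3, 2, 0, 3, 2, 3, 2, 1, 2, 2, 0, 0, 1, 3, 1, 1, 3, 3, 0, 1, 2, 2, 1, 3, 2, 1, 2, 0, 1],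
    [2, 3, 2, 1, 2, 0, 3, 1, 3, 2, 0, 2, 1, 0, 1, 3, 1, 3, 0, 2, 1, 3, 1, 3, 1, 2, 1, 0, 1, 3, 2, 3, 0, 1, 2, 1],
    [1, 2, 1, 3, 1, 0, 0, 2, 1, 3, 1, 3, 2, 3, 2, 0, 2, 1, 1, 2, 1, 3, 0, 3, 1, 0, 1, 3, 1, 3, 1, 2, 0, 3, 1, 3],
    [1, 2, 0, 3, 3, 3, 0, 3, 3, 1, 1, 1, 2, 3, 3, 1, 0, 1, 2, 3, 3, 0, 1, 1, 2, 0, 3, 1, 1, 1, 1, 2, 2, 3, 3, 0],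
    [2, 3, 3, 2, 0, 2, 3, 1, 1, 0, 3, 3, 1, 2, 0, 1, 1, 1, 2, 3, 3, 2, 2, 0, 0, 2, 2, 1, 1, 1, 1, 0, 2, 1, 1, 1],
    [3, 1, 1, 0, 3, 1, 0, 3, 3, 1, 2, 3, 3, 0, 1, 2, 3, 1, 3, 1, 0, 2, 3, 1, 1, 2, 2, 3, 0, 2, 1, 2, 2, 3, 1, 0],
    [0, 0, 0, 1, 3, 2, 0, 0, 0, 3, 1, 2, 0, 0, 0, 1, 1, 1, 2, 2, 1, 0, 0, 0, 3, 2, 3, 0, 0, 0, 3, 1, 1, 0, 0, 0],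
    [3, 0, 1, 0, 1, 0, 0, 2, 0, 2, 0, 2, 0, 2, 0, 3, 0, 1, 0, 1, 0, 3, 0, 2, 1, 0, 3, 0, 1, 0, 1, 0, 1, 0, 3, 0],
    [3, 0, 2, 2, 2, 1, 1, 2, 3, 3, 0, 2, 2, 3, 0, 1, 1, 3, 1, 2, 3, 3, 3, 0, 0, 1, 2, 2, 2, 1, 3, 1, 2, 0, 2, 1],
    [0, 3, 1, 3, 1, 2, 3, 2, 0, 2, 3, 1, 2, 1, 2, 1, 0, 3, 3, 2, 3, 0, 3, 1, 1, 3, 1, 3, 1, 0, 3, 0, 3, 2, 3, 1],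
    [0, 3, 0, 1, 3, 0, 1, 0, 3, 0, 0, 3, 0, 1, 0, 1, 2, 0, 3, 0, 3, 0, 0, 1, 0, 2, 0, 1, 1, 0, 3, 0, 1, 0, 0, 3],
    [0, 1, 1, 0, 0, 2, 2, 0, 0, 1, 1, 0, 1, 0, 0, 1, 2, 0, 0, 3, 2, 0, 0, 2, 1, 0, 0, 2, 1, 0, 0, 2, 3, 0, 0, 2],
    [2, 2, 0, 1, 0, 0, 3, 1, 0, 1, 0, 0, 0, 0, 1, 0, 1, 1, 0, 0, 3, 0, 2, 1, 0, 0, 2, 0, 3, 1, 2, 1, 0, 2, 0, 0],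
    [0, 2, 2, 3, 2, 1, 3, 1, 1, 2, 1, 0, 2, 0, 3, 1, 3, 2, 1, 2, 2, 0, 2, 1, 2, 3, 0, 1, 3, 2, 1, 2, 2, 3, 0, 1],
    [3, 2, 2, 1, 0, 3, 2, 0, 1, 3, 2, 2, 1, 3, 3, 0, 1, 1, 3, 2, 0, 1, 3, 3, 3, 2, 2, 1, 3, 0, 0, 3, 3, 2, 1, 1],
    [2, 3, 0, 3, 2, 2, 0, 1, 3, 1, 3, 3, 3, 1, 3, 0, 3, 3, 3, 1, 3, 1, 3, 0, 2, 0, 2, 3, 2, 2, 3, 1, 3, 1, 0, 3],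
    [2, 3, 2, 1, 3, 0, 1, 2, 0, 3, 2, 2, 0, 2, 1, 3, 2, 2, 1, 2, 1, 0, 2, 2, 3, 1, 3, 2, 0, 1, 2, 0, 2, 1, 3, 3],
    [1, 1, 2, 0, 1, 2, 1, 1, 2, 1, 1, 0, 3, 3, 1, 3, 0, 1, 0, 3, 1, 3, 3, 1, 3, 3, 0, 3, 3, 1, 2, 0, 3, 2, 2, 3],
    [2, 3, 0, 0, 1, 0, 1, 1, 0, 0, 1, 0, 0, 0, 2, 2, 0, 1, 3, 2, 0, 0, 1, 0, 0, 0, 3, 2, 0, 3, 0, 0, 2, 3, 0, 3],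
    [0, 2, 3, 1, 3, 1, 3, 1, 0, 3, 2, 3, 3, 1, 2, 3, 0, 3, 2, 3, 1, 0, 1, 2, 3, 1, 2, 3, 2, 0, 1, 0, 3, 1, 3, 1]],
   [[1, 0, 0, 0, 0, 0, 0, 1, 0, 0, 0, 0, 0, 0, 1, 0, 0, 0, 0, 0, 0, 1, 0, 0, 0, 0, 0, 0, 1, 0, 0, 0, 0, 0, 0, 1],
    [0, 1, 0, 3, 1, 0, 2, 0, 2, 0, 0, 1, 3, 0, 2, 0, 0, 3, 2, 0, 3, 0, 0, 3, 0, 2, 0, 3, 3, 0, 0, 1, 0, 1, 3, 0],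
    [0, 1, 1, 1, 3, 3, 2, 2, 2, 2, 0, 1, 1, 1, 1, 0, 3, 3, 3, 3, 0, 3, 2, 2, 3, 3, 3, 3, 2, 0, 1, 0, 1, 1, 3, 3],
    [0, 3, 2, 3, 0, 0, 1, 0, 0, 0, 3, 1, 0, 3, 3, 2, 0, 0, 2, 0, 0, 0, 2, 1, 1, 0, 0, 0, 2, 2, 0, 1, 2, 2, 0, 0],
    [0, 3, 1, 2, 2, 1, 1, 3, 1, 2, 2, 0, 1, 3, 1, 0, 2, 1, 1, 3, 0, 2, 2, 1, 2, 0, 2, 3, 3, 2, 2, 1, 2, 3, 0, 2],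
    [3, 2, 0, 3, 3, 3, 1, 3, 3, 0, 1, 1, 1, 0, 3, 1, 1, 1, 2, 1, 1, 2, 0, 2, 2, 1, 1, 2, 2, 0, 0, 1, 1, 2, 2, 2],
    [3, 2, 3, 1, 0, 1, 1, 3, 1, 0, 1, 2, 1, 3, 0, 2, 1, 2, 0, 2, 3, 1, 3, 1, 2, 0, 2, 3, 2, 3, 1, 3, 1, 2, 1, 0],
    [1, 2, 2, 0, 2, 1, 1, 2, 2, 2, 0, 1, 2, 3, 3, 3, 3, 0, 2, 3, 0, 3, 3, 2, 0, 1, 1, 1, 1, 3, 2, 0, 3, 3, 3, 2],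
    [3, 3, 1, 3, 3, 0, 3, 0, 1, 3, 3, 3, 1, 1, 2, 0, 1, 1, 0, 1, 2, 1, 1, 1, 3, 3, 1, 3, 0, 3, 3, 3, 0, 3, 3, 3],
    [1, 2, 2, 0, 2, 2, 1, 2, 2, 1, 0, 2, 2, 0, 3, 2, 3, 3, 0, 1, 1, 3, 1, 1, 1, 2, 0, 1, 2, 2, 3, 1, 1, 3, 1, 0],
    [1, 1, 3, 3, 0, 3, 3, 3, 2, 2, 1, 0, 3, 3, 2, 0, 1, 2, 0, 3, 2, 2, 1, 2, 3, 0, 2, 2, 1, 2, 1, 1, 0, 3, 2, 3],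
    [0, 0, 2, 3, 0, 1, 1, 1, 0, 0, 2, 0, 2, 3, 0, 0, 2, 0, 0, 0, 2, 1, 0, 3, 0, 0, 3, 3, 0, 3, 1, 3, 0, 0, 3, 0],
    [2, 1, 1, 3, 3, 0, 3, 2, 0, 1, 1, 1, 0, 2, 2, 1, 1, 1, 2, 0, 1, 3, 3, 3, 2, 1, 1, 0, 3, 3, 2, 1, 1, 3, 0, 3],
    [2, 2, 1, 0, 2, 2, 2, 0, 1, 1, 2, 2, 1, 1, 3, 3, 1, 0, 2, 2, 0, 1, 2, 2, 2, 2, 1, 1, 0, 2, 0, 2, 1, 1, 2, 2],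
    [0, 1, 3, 0, 0, 1, 0, 1, 2, 0, 0, 2, 3, 0, 0, 3, 2, 0, 2, 0, 0, 1, 2, 0, 0, 3, 3, 0, 0, 2, 1, 0, 0, 2, 2, 0],
    [2, 1, 1, 0, 3, 1, 3, 2, 2, 3, 0, 2, 2, 1, 0, 2, 3, 1, 1, 0, 3, 1, 2, 3, 0, 1, 1, 2, 3, 1, 1, 3, 3, 1, 2, 0],
    [1, 1, 3, 0, 1, 2, 3, 3, 0, 1, 3, 1, 3, 3, 2, 1, 0, 1, 0, 1, 3, 2, 1, 2, 3, 0, 2, 1, 3, 1, 3, 3, 2, 1, 3, 0],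
    [3, 2, 1, 3, 0, 3, 2, 1, 3, 2, 3, 0, 2, 1, 0, 2, 3, 2, 3, 0, 1, 3, 1, 3, 0, 2, 1, 3, 1, 3, 1, 3, 2, 0, 2, 1],
    [2, 3, 0, 3, 3, 3, 1, 0, 1, 2, 2, 2, 2, 3, 2, 3, 0, 3, 0, 1, 3, 1, 1, 1, 3, 1, 3, 0, 1, 1, 3, 1, 3, 1, 1, 0],
    [3, 2, 1, 0, 1, 2, 2, 1, 0, 3, 3, 1, 3, 2, 1, 1, 1, 0, 1, 3, 2, 2, 0, 3, 3, 0, 1, 1, 1, 2, 0, 1, 3, 3, 3, 1],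
    [2, 0, 0, 0, 1, 3, 0, 3, 3, 1, 0, 0, 1, 0, 0, 0, 2, 3, 0, 3, 2, 2, 0, 0, 1, 0, 0, 0, 1, 1, 0, 1, 2, 1, 0, 0],
    [1, 2, 1, 0, 3, 1, 3, 1, 3, 1, 0, 3, 0, 3, 2, 3, 1, 2, 3, 0, 3, 1, 2, 3, 2, 3, 2, 3, 1, 0, 3, 1, 0, 1, 2, 3],
    [0, 1, 3, 1, 3, 3, 3, 2, 1, 2, 1, 0, 1, 0, 2, 3, 2, 2, 2, 1, 3, 0, 3, 3, 3, 2, 0, 2, 1, 1, 3, 2, 1, 2, 0, 1],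
    [1, 2, 0, 2, 3, 2, 3, 1, 2, 0, 2, 1, 1, 2, 3, 2, 3, 0, 0, 1, 2, 1, 2, 1, 2, 0, 1, 3, 1, 3, 1, 2, 3, 2, 0, 2],
    [0, 1, 3, 2, 3, 3, 3, 3, 2, 1, 2, 0, 2, 2, 1, 3, 0, 1, 3, 0, 2, 1, 2, 2, 3, 3, 0, 1, 2, 2, 2, 2, 1, 0, 1, 1],
    [0, 0, 1, 3, 0, 3, 0, 0, 1, 2, 0, 1, 2, 2, 0, 0, 2, 0, 0, 0, 3, 3, 0, 1, 3, 1, 0, 0, 2, 0, 1, 3, 0, 0, 2, 0],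
    [2, 0, 2, 2, 1, 3, 1, 2, 0, 1, 3, 2, 1, 2, 1, 0, 3, 2, 0, 1, 3, 3, 2, 1, 2, 3, 2, 2, 0, 3, 2, 3, 2, 2, 1, 0],
    [1, 1, 0, 2, 2, 3, 1, 1, 1, 2, 2, 0, 2, 0, 2, 3, 3, 1, 3, 3, 3, 1, 0, 2, 0, 3, 3, 1, 1, 2, 1, 1, 1, 0, 2, 3],
    [0, 3, 1, 2, 1, 3, 2, 2, 3, 0, 3, 2, 2, 2, 3, 1, 3, 0, 1, 0, 2, 3, 2, 1, 1, 1, 0, 3, 2, 1, 2, 2, 3, 1, 0, 2],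
    [2, 1, 3, 1, 0, 1, 0, 3, 2, 3, 1, 3, 3, 2, 0, 2, 3, 2, 3, 2, 1, 2, 3, 0, 3, 0, 1, 2, 3, 2, 2, 1, 3, 0, 2, 1],
    [0, 2, 3, 2, 2, 3, 1, 2, 3, 0, 2, 3, 2, 3, 1, 3, 0, 1, 3, 1, 2, 1, 1, 0, 2, 3, 0, 3, 3, 1, 2, 0, 1, 3, 3, 1],
    [3, 1, 3, 0, 2, 2, 2, 0, 2, 1, 1, 1, 0, 1, 3, 2, 2, 2, 2, 3, 2, 1, 0, 1, 2, 3, 0, 1, 1, 1, 2, 3, 2, 1, 1, 0],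
    [1, 1, 3, 2, 0, 1, 1, 1, 0, 2, 2, 1, 0, 1, 3, 2, 2, 1, 3, 3, 2, 1, 1, 0, 3, 3, 2, 0, 1, 3, 2, 0, 1, 3, 3, 2],
    [1, 1, 2, 0, 2, 1, 2, 2, 3, 1, 0, 2, 0, 3, 1, 2, 1, 3, 2, 0, 3, 1, 3, 2, 2, 2, 3, 1, 3, 0, 1, 1, 0, 3, 2, 1],
    [0, 0, 0, 3, 2, 1, 0, 0, 0, 3, 3, 3, 0, 0, 0, 1, 2, 3, 1, 2, 1, 0, 0, 0, 2, 1, 1, 0, 0, 0, 1, 1, 2, 0, 0, 0],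
    [0, 2, 1, 3, 2, 2, 1, 3, 0, 1, 3, 3, 2, 1, 3, 2, 0, 1, 1, 3, 2, 0, 3, 3, 2, 1, 3, 2, 1, 0, 2, 0, 3, 2, 1, 1],
    [0, 0, 3, 0, 2, 1, 0, 0, 3, 0, 1, 2, 1, 1, 0, 2, 0, 0, 2, 3, 0, 2, 0, 0, 0, 0, 3, 0, 3, 3, 2, 1, 0, 1, 0, 0],
    [1, 3, 0, 3, 3, 1, 1, 3, 2, 0, 3, 1, 3, 2, 1, 2, 2, 0, 0, 1, 3, 1, 1, 2, 3, 0, 1, 2, 2, 3, 1, 3, 2, 3, 0, 1],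
    [2, 3, 2, 1, 2, 0, 3, 1, 3, 2, 0, 1, 1, 0, 1, 3, 1, 2, 0, 2, 1, 3, 1, 2, 1, 2, 1, 0, 1, 2, 3, 1, 0, 2, 3, 1],
    [1, 2, 1, 3, 1, 0, 0, 2, 1, 3, 1, 2, 2, 3, 2, 0, 2, 3, 1, 2, 1, 3, 0, 2, 1, 0, 1, 3, 1, 2, 2, 3, 0, 1, 2, 3],
    [1, 2, 0, 3, 3, 2, 0, 3, 3, 1, 1, 3, 2, 3, 3, 1, 0, 3, 2, 3, 3, 0, 1, 3, 2, 0, 3, 1, 1, 3, 2, 3, 3, 1, 1, 0],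
    [2, 3, 3, 2, 0, 1, 3, 1, 1, 0, 3, 2, 1, 2, 0, 1, 1, 3, 2, 3, 3, 2, 2, 0, 0, 2, 2, 1, 1, 3, 2, 0, 3, 2, 2, 1],
    [3, 1, 1, 0, 3, 3, 0, 3, 3, 1, 2, 2, 3, 0, 1, 2, 3, 3, 3, 1, 0, 2, 3, 3, 1, 2, 2, 3, 0, 1, 2, 3, 3, 1, 2, 0],
    [0, 0, 0, 1, 3, 1, 0, 0, 0, 3, 1, 1, 0, 0, 0, 1, 1, 3, 2, 2, 1, 0, 0, 0, 3, 2, 3, 0, 0, 0, 1, 2, 2, 0, 0, 0],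
    [3, 0, 1, 0, 1, 0, 0, 2, 0, 2, 0, 1, 0, 2, 0, 3, 0, 3, 0, 1, 0, 3, 0, 1, 1, 0, 3, 0, 1, 0, 2, 0, 2, 0, 1, 0],
    [3, 0, 2, 2, 2, 3, 1, 2, 3, 3, 0, 1, 2, 3, 0, 1, 1, 2, 1, 2, 3, 3, 3, 0, 0, 1, 2, 2, 2, 3, 1, 2, 3, 0, 3, 1],
    [0, 3, 1, 3, 1, 1, 3, 2, 0, 2, 3, 3, 2, 1, 2, 1, 0, 2, 3, 2, 3, 0, 3, 3, 1, 3, 1, 3, 1, 0, 1, 0, 1, 3, 1, 1],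
    [0, 3, 0, 1, 3, 0, 1, 0, 3, 0, 0, 2, 0, 1, 0, 1, 2, 0, 3, 0, 3, 0, 0, 3, 0, 2, 0, 1, 1, 0, 1, 0, 2, 0, 0, 3],
    [0, 1, 1, 0, 0, 1, 2, 0, 0, 1, 1, 0, 1, 0, 0, 1, 2, 0, 0, 3, 2, 0, 0, 1, 1, 0, 0, 2, 1, 0, 0, 3, 1, 0, 0, 2],
    [2, 2, 0, 1, 0, 0, 3, 1, 0, 1, 0, 0, 0, 0, 1, 0, 1, 3, 0, 0, 3, 0, 2, 3, 0, 0, 2, 0, 3, 3, 3, 2, 0, 3, 0, 0],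
    [0, 2, 2, 3, 2, 3, 3, 1, 1, 2, 1, 0, 2, 0, 3, 1, 3, 1, 1, 2, 2, 0, 2, 3, 2, 3, 0, 1, 3, 1, 2, 3, 3, 1, 0, 1],
    [3, 2, 2, 1, 0, 2, 2, 0, 1, 3, 2, 1, 1, 3, 3, 0, 1, 3, 3, 2, 0, 1, 3, 2, 3, 2, 2, 1, 3, 0, 0, 1, 1, 3, 2, 1],
    [2, 3, 0, 3, 2, 1, 0, 1, 3, 1, 3, 2, 3, 1, 3, 0, 3, 2, 3, 1, 3, 1, 3, 0, 2, 0, 2, 3, 2, 1, 1, 2, 1, 2, 0, 3],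
    [2, 3, 2, 1, 3, 0, 1, 2, 0, 3, 2, 1, 0, 2, 1, 3, 2, 1, 1, 2, 1, 0, 2, 1, 3, 1, 3, 2, 0, 3, 3, 0, 3, 2, 1, 3],
    [1, 1, 2, 0, 1, 1, 1, 1, 2, 1, 1, 0, 3, 3, 1, 3, 0, 3, 0, 3, 1, 3, 3, 3, 3, 3, 0, 3, 3, 3, 3, 0, 1, 3, 3, 3],
    [2, 3, 0, 0, 1, 0, 1, 1, 0, 0, 1, 0, 0, 0, 2, 2, 0, 3, 3, 2, 0, 0, 1, 0, 0, 0, 3, 2, 0, 2, 0, 0, 3, 1, 0, 3],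
    [0, 2, 3, 1, 3, 3, 3, 1, 0, 3, 2, 2, 3, 1, 2, 3, 0, 2, 2, 3, 1, 0, 1, 1, 3, 1, 2, 3, 2, 0, 2, 0, 1, 2, 1, 1]]]

/-- Words in the consecutive three-cycles for the products of two transpositions, the second one `(0 1)`. -/
def pairTab : List (List Nat) :=
  [[], [], [0], [0, 1, 1], [0, 2, 1, 1], [0, 2, 3, 3, 1, 1], [], [], [0, 0], [1, 0, 0], [1, 2, 2, 0, 0], [1, 3, 2, 2, 0, 0], [0], [0, 0], [], [0, 1], [2, 0, 1], [0, 1, 3, 2, 2], [0, 1, 1], [1, 0, 0], [0, 1], [], [0, 1, 2], [0, 3, 1, 2], [0, 2, 1, 1], [1, 2, 2, 0, 0], [2, 0, 1], [0, 1, 2], [], [0, 1, 2, 3], [0, 2, 3, 3, 1, 1], [1, 3, 2, 2, 0, 0], [0, 1, 3, 2, 2], [0, 3,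 1, 2], [0, 1, 2, 3], []]

end CfsgLib.SU6Cover
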