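import Cfsg.Agent.Lib.SU6Cover.Basic
import Cfsg.Agent.Lib.SU6Cover.Data
import Cfsg.Agent.Lib.SU6Cover.Data2

/-! The matrices and checks of the certificates for the triple covers inside `SU₆(2)`. -/

set_option autoImplicit false

namespace CfsgLib.SU6Cover

/-- Exponents and transpositions of the generators of the monomial part. -/
def genTab : List (List ℕ × List (ℕ × ℕ)) :=
  [([1, 2, 0, 0, 0, 0], []), ([0, 1, 2, 0, 0, 0], []), ([0, 0, 1, 2, 0, 0], []), ([0, 0, 0, 1, 2, 0], []),
   ([0, 0, 0, 0, 1, 2], []), ([0, 0, 0, 0, 0, 0], [(0, 1), (1, 2)]), ([0, 0, 0, 0, 0, 0], [(1, 2), (2, 3)]),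
   ([0, 0, 0, 0, 0, 0], [(2, 3), (3, 4)]), ([0, 0, 0, 0, 0, 0], [(3, 4), (4, 5)])]

/-- A generator of the monomial part. -/
def genC (k : ℕ) : List ℕ := monC (genTab.getD k ([], [])).1 (genTab.getD k ([], [])).2

/-- The transpositions modulo the elementary group of order nine. -/
def ppTab : List (List (ℕ × ℕ)) := [[], [(0, 1)], [(3, 4)], [(0, 1), (3, 4)]]

/-- An odd monomial matrix. -/
def tauC : List ℕ := monC [0, 0, 0, 0, 0, 0] [(0, 1)]

/-- The letters of a model. -/
def letsC (i : ℕ) : List (List ℕ) :=
  [tabX.getD i [], tabY.getD i [], tconjC (tabX.getD i []), tconjC (tabY.getD i []), scalC 2, scalC 3]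

/-- The letters of the reverse words. -/
def xletsC (i : ℕ) : List (List ℕ) :=
  (List.range 9).map genC ++ [tabH.getD i []] ++
    ((List.range 9).map genC ++ [tabH.getD i []]).map tconjC

/-- A block diagonal matrix. -/
def bdC (a b : ℕ) : List ℕ :=
  ofFn2 fun i j =>
    if i < 3 ∧ j < 3 then (tabR.getD a []).getD (3 * i + j) 0
    else if 3 ≤ i ∧ 3 ≤ j then (tabR.getD b []).getD (3 * (i - 3) + (j - 3)) 0 else 0

/-- The letters of a candidate row. -/
def candLetsC (a b k : ℕ) : List (List ℕ) :=
  [prodC (bdC a b) (monC [0, 0, 0, 0, 0, 0] (ppTab.getD k [])),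
    genC 0, genC 1, genC 2, genC 3, genC 4, genC 5, genC 8]

/-- A matrix with two non-zero entries in one column. -/
def notMonC (A : List ℕ) : Bool :=
  (List.range 6).any fun j => (List.range 6).any fun i => (List.range i).any fun k =>
    !(Nat.beq (A.getD (6 * i + j) 0 % 4) 0) && !(Nat.beq (A.getD (6 * k + j) 0 % 4) 0)

/-- A word uses only the letters below a bound. -/
def letOk (n : ℕ) (w : List ℕ) : Bool := w.all fun l => Nat.blt l n

/-- A scalar. -/
def isScalC (A : List ℕ) : Bool := eqC A (scalC 1) || eqC A (scalC 2) || eqC A (scalC 3)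

/-- An odd monomial value. -/
def oddC (A : List ℕ) (e : List ℕ) (l : List (ℕ × ℕ)) : Bool :=
  eqC A (monC e l) && Nat.beq (l.length % 2) 1 && l.all fun p => !(Nat.beq (p.1 % 6) (p.2 % 6))

/-- The generators of a model. -/
def okGen (i : ℕ) : Bool :=
  let X := tabX.getD i []
  let Y := tabY.getD i []
  eqC (prodC (tconjC X) X) (scalC 1) && eqC (evalC [X] (List.replicate 5 0)) (scalC 1) &&
    eqC (prodC (tconjC Y) Y) (scalC 1) && eqC (evalC [Y] (List.replicate 7 0)) (scalC 1) &&
    !isScalC X && !isScalC (evalC (letsC i) [0, 1, 2, 3])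

/-- The monomial part and the extra element of a model. -/
def okWords (i : ℕ) : Bool :=
  ((List.range 9).all fun k => letOk 6 ((m0Words.getD i []).getD k []) &&
    eqC (evalC (letsC i) ((m0Words.getD i []).getD k [])) (genC k)) &&
  letOk 6 (hWord.getD i []) && eqC (evalC (letsC i) (hWord.getD i [])) (tabH.getD i []) &&
  notMonC (tabH.getD i []) &&
  ((List.range 6).all fun r => (List.range 6).all fun c =>
    Nat.beq (r / 3) (c / 3) || Nat.beq ((tabH.getD i []).getD (6 * r + c) 0 % 4) 0)

/-- The transposition acts on a model. -/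
def okTau (i : ℕ) : Bool :=
  letOk 6 (txWord.getD i []) && letOk 6 (tyWord.getD i []) &&
  eqC (evalC (letsC i) (txWord.getD i [])) (prodC (prodC tauC (tabX.getD i [])) tauC) &&
  eqC (evalC (letsC i) (tyWord.getD i [])) (prodC (prodC tauC (tabY.getD i [])) tauC)

/-- The generators as words in the monomial part and the extra element. -/
def okBack (i : ℕ) : Bool :=
  letOk 20 (xWord.getD i []) && letOk 20 (yWord.getD i []) &&
  eqC (evalC (xletsC i) (xWord.getD i [])) (tabX.getD i []) &&
  eqC (evalC (xletsC i) (yWord.getD i [])) (tabY.getD i [])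

/-- The listed coset representatives lie in a model. -/
def okFrameWord (i : ℕ) : Bool :=
  (List.range 57).all fun a => letOk 6 ((frameWords.getD i []).getD a []) &&
    eqC (evalC (letsC i) ((frameWords.getD i []).getD a [])) ((frameTab.getD i []).getD a [])

/-- The listed coset representatives are different. -/
def okFrameSep (i : ℕ) : Bool :=
  (List.range 57).all fun a => (List.range a).all fun b =>
    notMonC (prodC (tconjC ((frameTab.getD i []).getD a [])) ((frameTab.getD i []).getD b []))

/-- A candidate row: one of the models or an odd monomial matrix. -/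
def okCand (a b k : ℕ) : Bool :=
  match candTab.getD ((4 * a + b - 1) * 4 + k) (0, 0, 0, 0, [], [], []) with
  | (_, _, _, kind, w, e, l) => letOk 8 w &&
      if kind < 3 then eqC (evalC (candLetsC a b k) w) (tabH.getD kind [])
      else oddC (evalC (candLetsC a b k) w) e l

/-- A clash row. -/
def okClash (r : ℕ) : Bool :=
  match clashTab.getD r (0, 0, [], [], []) with
  | (i, j, w, e, l) => letOk 2 w && oddC (evalC [tabH.getD i [], tabH.getD j []] w) e l

/-- A block diagonal matrix is a special unitary one. -/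
def okBd (a b : ℕ) : Bool :=
  eqC (prodC (tconjC (bdC a b)) (bdC a b)) (scalC 1) &&
    eqC (evalC [bdC a b] (List.replicate 4 0)) (scalC 1)

end CfsgLib.SU6Cover
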