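import Cfsg.Agent.Lib.SU6Cover.Match

/-! The three classes of triple covers of `PSU₄(3)` in `SU₆(2)`. -/

set_option autoImplicit false
set_option maxRecDepth 100000
set_option maxHeartbeats 1000000

namespace CfsgLib.SU6Cover

open Matrix

variable {F9 : Type} [Field F9] [Fintype F9] (hF9 : Fintype.card F9 = 9)
include hF9

theorem model_eq {i : Fin 3} {K : Subgroup G6} (hK : IsCover F9 K) (hM : M0 ≤ K) (hh : hel i ∈ K) :
    K = model i :=
  (Subgroup.eq_of_le_of_card_ge (model_le i hM hh)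
    (by rw [card_cover hF9 hK, card_cover hF9 (model_cover i hF9)])).symm

omit hF9 in
theorem sign_odd {e : List ℕ} {l : List (ℕ × ℕ)} {A : List ℕ} (h : oddC A e l = true) {x : G6}
    (hx : toM A = mt x) : x ∈ Mon ∧ x ∉ M0 := by
  simp only [oddC, Bool.and_eq_true] at h
  have he : mt x = mon _ (swaps l) := (hx.symm.trans (toM_eq_of_eqC h.1.1)).trans (toM_monC e l)
  refine ⟨mem_Mon he, fun hm => ?_⟩
  rw [mem_MonS he, Equiv.Perm.mem_alternatingGroup, sign_swaps l h.2,
    Odd.neg_one_pow (Nat.odd_iff.2 (Nat.eq_of_beq_eq_true h.1.2))] at hm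
  exact absurd hm (by decide)

omit hF9 in
theorem bd_mem_Lz (a b : Fin 4) : bd a b ∈ Lz := mem_of_blk fun i j h => by rw [mt_bd, bd_blk a b i j h]

/-- A cover containing the Sylow three subgroup is a model. -/
theorem exists_model_eq {K : Subgroup G6} (hK : IsCover F9 K) (hP : P ≤ K) : ∃ i, K = model i := by
  obtain ⟨hKM, g, hgK, hgL, hgM⟩ := cover_inter hF9 hK hP
  have hM0 : M0 ≤ K := hKM ▸ inf_le_left
  obtain ⟨a, b, m, hm, rfl⟩ := exists_bd_mul hgL
  have hmL : m ∈ Lz := by simpa using Lz.mul_mem (Lz.inv_mem (bd_mem_Lz a b)) hgL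
  obtain ⟨e, σ, -, he⟩ := hm
  have hσ : ∀ j : Fin 6, (σ j).val / 3 = j.val / 3 := fun j => by
    by_contra hne
    have := blk_of_mem hmL (σ j) j hne
    rw [he] at this
    simp only [mon, Matrix.of_apply, if_pos rfl] at this
    exact wp_ne _ this
  obtain ⟨k, p, hσ'⟩ := block_perm σ hσ
  set mk := mg 0 (pp k) (by simp) with hmk
  have hm'' : mk⁻¹ * m ∈ P := by
    have h1 : (⟨mk, mem_Mon rfl⟩⁻¹ * ⟨m, mem_Mon he⟩ : Mon).1 ∈ MonS P3 := by
      obtain ⟨e1, h1⟩ := permHom_spec ⟨mk, mem_Mon rfl⟩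
      obtain ⟨e2, h2⟩ := permHom_spec ⟨m, mem_Mon he⟩
      rw [mem_MonS_iff_permHom, map_mul, map_inv, ← (mon_inj ((rfl : mt mk = mon 0 (pp k)).symm.trans h1)).2,
        ← (mon_inj (he.symm.trans h2)).2, hσ', inv_mul_cancel_left]
      exact ⟨p, rfl⟩
    exact h1
  have ht : bd a b * mk ∈ K := by
    have := K.mul_mem hgK (K.inv_mem (hP hm''))
    simpa [mul_assoc] using this
  have hab : a ≠ 0 ∨ b ≠ 0 := by
    by_contra hc
    push Not at hc
    obtain ⟨rfl, rfl⟩ := hc
    refine hgM ?_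
    rw [show bd 0 0 = 1 from mt_injective (by rw [mt_bd, map_one]; exact bd_zero), one_mul]
    exact mem_Mon he
  have hc := cand_ok a b k hab
  rcases hrow : candTab.getD ((4 * a.val + b.val - 1) * 4 + k.val) (0, 0, 0, 0, [], [], []) with
    ⟨a', b', k', kind, w, e', l⟩
  simp only [okCand, hrow, Bool.and_eq_true] at hc
  let clet : ℕ → G6 := fun n =>
    match n with
    | 0 => bd a b * mk
    | 1 => mgen 0 | 2 => mgen 1 | 3 => mgen 2 | 4 => mgen 3 | 5 => mgen 4 | 6 => mgen 5
    | _ => mgen 8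
  have hclet : ∀ n < 8, clet n ∈ K := by
    intro n hn
    interval_cases n
    exacts [ht, hM0 (mgen_mem_M0 _), hM0 (mgen_mem_M0 _), hM0 (mgen_mem_M0 _), hM0 (mgen_mem_M0 _),
      hM0 (mgen_mem_M0 _), hM0 (mgen_mem_M0 _), hM0 (mgen_mem_M0 _)]
  have htoM : toM (prodC (bdC a.val b.val) (monC [0, 0, 0, 0, 0, 0] (ppTab.getD k.val []))) =
      mt (bd a b * mk) := by
    rw [toM_prodC, map_mul, mt_bd, toM_monC]
    refine congrArg₂ (· * ·) rfl (congrArg₂ mon (funext fun j => ?_) rfl)
    fin_cases j <;> rfl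
  have hlets : ∀ n < 8, toM ((candLetsC a.val b.val k.val).getD n []) = mt (clet n) := by
    intro n hn
    interval_cases n
    exacts [htoM, toM_genC 0, toM_genC 1, toM_genC 2, toM_genC 3, toM_genC 4, toM_genC 5, toM_genC 8]
  by_cases hk : kind < 3
  · rw [if_pos hk] at hc
    exact ⟨⟨kind, hk⟩, model_eq hF9 hK hM0
      (mem_of_word hlets hclet hc.1 ((toM_eq_of_eqC hc.2).trans (mt_hel ⟨kind, hk⟩).symm))⟩
  · rw [if_neg hk] at hc
    have hy : (w.map clet).prod ∈ K := K.list_prod_mem fun y hy => by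
      obtain ⟨n, hn, rfl⟩ := List.mem_map.1 hy
      exact hclet n (letOk_lt hc.1 n hn)
    obtain ⟨h1, h2⟩ := sign_odd hc.2
      (toM_evalC (candLetsC a.val b.val k.val) clet w fun n hn => hlets n (letOk_lt hc.1 n hn))
    exact absurd (hKM ▸ (⟨hy, h1⟩ : (w.map clet).prod ∈ K ⊓ Mon)) h2

omit hF9 in
theorem center_congr {A B : Type*} [Group A] [Group B] (e : A ≃* B) :
    Nat.card (Subgroup.center B) = Nat.card (Subgroup.center A) ∧
      Nonempty (B ⧸ Subgroup.center B ≃* A ⧸ Subgroup.center A) := by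
  have h : (Subgroup.center A).map e.toMonoidHom = Subgroup.center B := by
    ext x
    simp only [Subgroup.mem_map, Subgroup.mem_center_iff]
    constructor
    · rintro ⟨y, hy, rfl⟩ z
      obtain ⟨z, rfl⟩ := e.surjective z
      show e z * e y = e y * e z
      rw [← map_mul, ← map_mul, hy]
    · intro hx
      obtain ⟨y, rfl⟩ := e.surjective x
      exact ⟨y, fun z => e.injective (by rw [map_mul, map_mul, hx]), rfl⟩
  refine ⟨?_, ⟨(QuotientGroup.congr _ _ e h).symm⟩⟩
  rw [← h]
  exact (Nat.card_congr (Subgroup.equivMapOfInjective _ _ e.injective).toEquiv).symm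

/-- The hypotheses give a cover. -/
theorem isCover_of {K : Subgroup G6} (hc : Nat.card (Subgroup.center K) = 3)
    (he : Nonempty (K ⧸ Subgroup.center K ≃* Cfsg.PSU 4 F9 3)) (hP : P ≤ K) : IsCover F9 K := by
  obtain ⟨e⟩ := he
  have hcard : Nat.card K = 9797760 := by
    rw [Subgroup.card_eq_card_quotient_mul_card_subgroup (Subgroup.center K), hc, Nat.card_congr e.toEquiv,
      CfsgLib.SchurTable.UFourThree.card_psu_four_three (F := F9) hF9]
  have hcen : ∀ c ∈ Subgroup.center K, (c : G6) ∈ Zs := by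
    intro c hcc
    have hcomm : ∀ x ∈ K, (c : G6) * x = x * c := fun x hx =>
      (congrArg Subtype.val (Subgroup.mem_center_iff.1 hcc ⟨x, hx⟩)).symm
    obtain ⟨u, v, huv⟩ := block_of_centralizes fun x hx => hcomm x (hP hx)
    rw [← QuotientGroup.eq_one_iff]
    show pmap c = 1
    rw [pmap_block huv]
    have h3 : (v - u).val < 3 := ZMod.val_lt _
    by_contra hne
    have hle : K ≤ Lz := fun x hx => by
      rw [mem_Lz]
      have h1 : Commute (pmap x) (pmap zz ^ (v - u).val) := by
        rw [← pmap_block huv, commute_iff_eq, ← map_mul, ← map_mul, hcomm x hx]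
      have hz3 : pmap zz ^ 3 = 1 := by
        have := pmap_block (g := 1) (u := 0) (v := 0) ((map_one mt).trans (mon_one.symm.trans (by
          congr 1; decide +kernel)))
        rw [← map_pow]
        refine (QuotientGroup.eq_one_iff _).2 (mem_Zs (k := 0) ?_)
        rw [map_pow, mt_zz, mon_pow]
        congr 1
        decide +kernel
      interval_cases hd : (v - u).val
      · exact absurd (pow_zero _) hne
      · simpa using h1.eq
      · have h2 := h1.pow_right 2
        rw [← pow_mul, show 2 * 2 = 3 + 1 from rfl, pow_succ, hz3, one_mul] at h2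
        exact h2.eq
    have hle' := Nat.card_le_card_of_injective _ (Subgroup.inclusion_injective hle)
    have := card_Lz
    omega
  have hzK : Subgroup.center K = Zs.subgroupOf K ∧ Zs ≤ K := by
    have hmap : (Subgroup.center K).map K.subtype ≤ Zs := by
      rintro _ ⟨c, hc', rfl⟩; exact hcen c hc'
    have heq : (Subgroup.center K).map K.subtype = Zs :=
      Subgroup.eq_of_le_of_card_ge hmap (by
        rw [card_Zs, ← Nat.card_congr (Subgroup.equivMapOfInjective _ _ K.subtype_injective).toEquiv, hc])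
    exact ⟨by rw [← heq, Subgroup.subgroupOf, Subgroup.comap_map_eq_self_of_injective K.subtype_injective],
      heq ▸ Subgroup.map_subtype_le _⟩
  have hker : Subgroup.center K = (pmap.comp K.subtype).ker := by
    rw [hzK.1, ← MonoidHom.comap_ker, QuotientGroup.ker_mk']; rfl
  exact ⟨hzK.2, ⟨(e.symm.trans (QuotientGroup.quotientMulEquivOfEq hker)).trans
    ((QuotientGroup.quotientKerEquivRange _).trans
      (MulEquiv.subgroupCongr (by rw [MonoidHom.range_comp, Subgroup.range_subtype])))⟩⟩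

/-- Every triple cover is conjugate to a model. -/
theorem conj_model {K : Subgroup G6} (hc : Nat.card (Subgroup.center K) = 3)
    (he : Nonempty (K ⧸ Subgroup.center K ≃* Cfsg.PSU 4 F9 3)) : ∃ g i, cmap g K = model i := by
  obtain ⟨e⟩ := he
  have hcard : Nat.card K = 3 ^ 7 * 4480 := by
    rw [Subgroup.card_eq_card_quotient_mul_card_subgroup (Subgroup.center K), hc, Nat.card_congr e.toEquiv,
      CfsgLib.SchurTable.UFourThree.card_psu_four_three (F := F9) hF9]
    norm_num
  haveI : Fact (Nat.Prime 3) := ⟨by norm_num⟩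
  obtain ⟨Q, hQ⟩ := Sylow.exists_subgroup_card_pow_prime 3 (G := K) (n := 7) (hcard ▸ dvd_mul_right _ _)
  obtain ⟨g, hg⟩ := sylow_conj (n := 7) (m := 12615680) (by rw [card_G6]; norm_num) (by norm_num)
    (Q.map K.subtype) P
    (by rw [← Nat.card_congr (Subgroup.equivMapOfInjective _ _ K.subtype_injective).toEquiv, hQ])
    (by rw [card_P]; norm_num)
  obtain ⟨h1, ⟨h2⟩⟩ := center_congr (K.equivMapOfInjective (MulAut.conj g).toMonoidHom (MulAut.conj g).injective)
  have hcov : IsCover F9 (cmap g K) := isCover_of hF9 (h1.trans hc) ⟨h2.trans e⟩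
    (hg ▸ Subgroup.map_mono (Subgroup.map_subtype_le _))
  exact ⟨g, exists_model_eq hF9 hcov (hg ▸ Subgroup.map_mono (Subgroup.map_subtype_le _))⟩

theorem model_injective {i j : Fin 3} (h : model i = model j) : i = j := by
  by_contra hne
  obtain ⟨r, hr⟩ : ∃ r : Fin 3, [(0, 1), (0, 2), (1, 2)].getD r.val (0, 0) = (i.val, j.val) ∨
      [(0, 1), (0, 2), (1, 2)].getD r.val (0, 0) = (j.val, i.val) := by
    clear h; revert hne; revert i j; decide +kernel
  obtain ⟨x, y, hxy, hidx⟩ : ∃ x y : Fin 3, model x = model y ∧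
      [(0, 1), (0, 2), (1, 2)].getD r.val (0, 0) = (x.val, y.val) := by
    rcases hr with hr | hr
    exacts [⟨i, j, h, hr⟩, ⟨j, i, h.symm, hr⟩]
  have hc := clash_ok r
  have hid := clash_idx r
  rw [hidx] at hid
  rcases hrow : clashTab.getD r.val (0, 0, [], [], []) with ⟨x', y', w, e, l⟩
  rw [hrow] at hid
  simp only [Prod.mk.injEq] at hid
  obtain ⟨rfl, rfl⟩ := hid
  simp only [okClash, hrow, Bool.and_eq_true] at hc
  let let2 : ℕ → G6 := fun n => if n = 0 then hel x else hel y
  have hmem : ∀ n < 2, let2 n ∈ model x := fun n _ => by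
    simp only [let2]; split_ifs
    exacts [hel_mem x, hxy ▸ hel_mem y]
  have hl : ∀ n < 2, toM ([tabH.getD x.val [], tabH.getD y.val []].getD n []) = mt (let2 n) := fun n hn => by
    interval_cases n
    exacts [(mt_hel x).symm, (mt_hel y).symm]
  have hy : (w.map let2).prod ∈ model x := (model x).list_prod_mem fun z hz => by
    obtain ⟨n, hn, rfl⟩ := List.mem_map.1 hz
    exact hmem n (letOk_lt hc.1 n hn)
  obtain ⟨h1, h2⟩ := sign_odd hc.2 (toM_evalC _ let2 w fun n hn => hl n (letOk_lt hc.1 n hn))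
  exact h2 (model_inter x hF9 ▸ ⟨hy, h1⟩)

/-- The models are not conjugate. -/
theorem model_not_conj {i j : Fin 3} {g : G6} (h : cmap g (model i) = model j) : i = j := by
  refine model_injective hF9 ?_
  have hPi : P ≤ model i := P_le_M0.trans (M0_le_model i)
  have hPj : P ≤ model j := P_le_M0.trans (M0_le_model j)
  have hgP : cmap g P ≤ model j := h ▸ Subgroup.map_mono hPi
  obtain ⟨k, hk⟩ := sylow_conj (n := 7) (m := 4480)
    (by rw [card_cover hF9 (model_cover j hF9)]; norm_num) (by norm_num)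
    ((cmap g P).subgroupOf (model j)) (P.subgroupOf (model j))
    (by rw [Nat.card_congr (Subgroup.subgroupOfEquivOfLe hgP).toEquiv, card_cmap, card_P]; norm_num)
    (by rw [Nat.card_congr (Subgroup.subgroupOfEquivOfLe hPj).toEquiv, card_P]; norm_num)
  have hP' : cmap ((k : G6) * g) P = P := by
    have := congrArg (Subgroup.map (model j).subtype) hk
    rw [Subgroup.map_subgroupOf_eq_of_le hPj, cmap, Subgroup.map_map,
      show ((model j).subtype.comp (MulAut.conj k).toMonoidHom) =
        (MulAut.conj (k : G6)).toMonoidHom.comp (model j).subtype from MonoidHom.ext fun _ => rfl,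
      ← Subgroup.map_map, Subgroup.map_subgroupOf_eq_of_le hgP] at this
    rw [← cmap_cmap]
    exact this
  have hK : cmap ((k : G6) * g) (model i) = model j := by rw [← cmap_cmap, h, cmap_self k.2]
  generalize (k : G6) * g = s at hP' hK
  have hE : cmap s E = E := by
    refine eq_E (hP' ▸ Subgroup.map_mono E_le_P) (by rw [card_cmap, card_E]) ?_
    rintro _ ⟨a, ha, rfl⟩ _ ⟨b, hb, rfl⟩
    rw [← map_mul, ← map_inv, ← map_mul, ← map_inv, ← map_mul, E_comm a ha b hb]
    simp [Subgroup.one_mem]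
  have hs : s ∈ Mon := mem_Mon_of_normE fun x hx => by
    obtain ⟨y, hy, rfl⟩ := hE.ge hx
    simpa [mul_assoc] using hy
  by_cases hs0 : s ∈ M0
  · rw [cmap_self (M0_le_model i hs0)] at hK
    exact hK
  · have hm := tau_mul_mem hs hs0
    have heq : cmap tau (model i) = model i := Subgroup.eq_of_le_of_card_ge (tau_conj i) (card_cmap _ _).ge
    rw [show s = tau * (tau * s) by rw [← mul_assoc, tau_mul_self, one_mul], ← cmap_cmap,
      cmap_self (M0_le_model i hm), heq] at hK
    exact hK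

/-- The classification, in any isomorphic copy of `SU₆(2)`. -/
theorem classes {G : Type*} [Group G] (φ : G6 ≃* G) : ∃ K₁ K₂ K₃ : Subgroup G,
    (∀ K ∈ [K₁, K₂, K₃], Nat.card (Subgroup.center K) = 3 ∧
      Nonempty (K ⧸ Subgroup.center K ≃* Cfsg.PSU 4 F9 3)) ∧
    (¬ ∃ g : G, K₁.map (MulAut.conj g).toMonoidHom = K₂) ∧
    (¬ ∃ g : G, K₁.map (MulAut.conj g).toMonoidHom = K₃) ∧
    (¬ ∃ g : G, K₂.map (MulAut.conj g).toMonoidHom = K₃) ∧
    ∀ K : Subgroup G, Nat.card (Subgroup.center K) = 3 →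
      Nonempty (K ⧸ Subgroup.center K ≃* Cfsg.PSU 4 F9 3) →
      ∃ g : G, K.map (MulAut.conj g).toMonoidHom = K₁ ∨ K.map (MulAut.conj g).toMonoidHom = K₂ ∨
        K.map (MulAut.conj g).toMonoidHom = K₃ := by
  have hconj : ∀ (g : G6) (S : Subgroup G6), cmap (φ g) (S.map φ.toMonoidHom) = (cmap g S).map φ.toMonoidHom :=
    fun g S => by
      rw [cmap, cmap, Subgroup.map_map, Subgroup.map_map]
      congr 1
      ext x
      simp
  have hinj : Function.Injective fun S : Subgroup G6 => S.map φ.toMonoidHom :=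
    Subgroup.map_injective φ.injective
  have hne : ∀ i j : Fin 3, i ≠ j →
      ¬ ∃ g : G, cmap g ((model i).map φ.toMonoidHom) = (model j).map φ.toMonoidHom := by
    rintro i j hij ⟨g, hg⟩
    obtain ⟨g, rfl⟩ := φ.surjective g
    rw [hconj] at hg
    exact hij (model_not_conj hF9 (hinj hg))
  refine ⟨(model 0).map φ.toMonoidHom, (model 1).map φ.toMonoidHom, (model 2).map φ.toMonoidHom, ?_,
    hne 0 1 (by decide), hne 0 2 (by decide), hne 1 2 (by decide), fun K hc he => ?_⟩
  · intro K hK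
    obtain ⟨i, rfl⟩ : ∃ i : Fin 3, K = (model i).map φ.toMonoidHom := by
      simp only [List.mem_cons, List.not_mem_nil, or_false] at hK
      obtain h | h | h := hK
      exacts [⟨0, h⟩, ⟨1, h⟩, ⟨2, h⟩]
    obtain ⟨h1, ⟨h2⟩⟩ := center_congr ((model i).equivMapOfInjective φ.toMonoidHom φ.injective)
    obtain ⟨e⟩ := quotient_cover hF9 (model_cover i hF9)
    exact ⟨h1.trans (card_center_cover hF9 (model_cover i hF9)), ⟨h2.trans e⟩⟩
  · obtain ⟨e⟩ := he
    obtain ⟨h1, ⟨h2⟩⟩ := center_congr (K.equivMapOfInjective φ.symm.toMonoidHom φ.symm.injective)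
    obtain ⟨g, i, hg⟩ := conj_model hF9 (h1.trans hc) ⟨h2.trans e⟩
    have hK : (K.map φ.symm.toMonoidHom).map φ.toMonoidHom = K := by
      rw [Subgroup.map_map, show φ.toMonoidHom.comp φ.symm.toMonoidHom = MonoidHom.id G from
        MonoidHom.ext fun x => φ.apply_symm_apply x, Subgroup.map_id]
    refine ⟨φ g, ?_⟩
    have := hconj g (K.map φ.symm.toMonoidHom)
    rw [hK, hg] at this
    fin_cases i
    exacts [Or.inl this, Or.inr (Or.inl this), Or.inr (Or.inr this)]

end CfsgLib.SU6Cover
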