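import Cfsg.Agent.Lib.SU6Cover.Model
import Cfsg.Agent.S0279
import Cfsg.Agent.S0280

/-! A cover containing the Sylow three subgroup contains the monomial part of a model and one of the extra elements. -/

set_option autoImplicit false
set_option maxRecDepth 100000
set_option maxHeartbeats 1000000

namespace CfsgLib.SU6Cover

open Matrix

/-- Conjugation of a subgroup. -/
abbrev cmap {G : Type*} [Group G] (a : G) (K : Subgroup G) : Subgroup G := K.map (MulAut.conj a).toMonoidHom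

theorem mem_cmap {G : Type*} [Group G] {a : G} {K : Subgroup G} {x : G} (hx : x ∈ K) :
    a * x * a⁻¹ ∈ cmap a K := ⟨x, hx, rfl⟩

theorem cmap_cmap {G : Type*} [Group G] (a b : G) (K : Subgroup G) : cmap b (cmap a K) = cmap (b * a) K := by
  rw [cmap, cmap, cmap, Subgroup.map_map]
  congr 1
  ext x
  simp [mul_assoc]

theorem cmap_self {G : Type*} [Group G] {a : G} {K : Subgroup G} (ha : a ∈ K) : cmap a K = K := by
  refine le_antisymm ?_ fun x hx => ⟨a⁻¹ * x * a, K.mul_mem (K.mul_mem (K.inv_mem ha) hx) ha, by simp [mul_assoc]⟩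
  rintro _ ⟨x, hx, rfl⟩
  exact K.mul_mem (K.mul_mem ha hx) (K.inv_mem ha)

theorem card_cmap {G : Type*} [Group G] (a : G) (K : Subgroup G) : Nat.card (cmap a K) = Nat.card K :=
  (Nat.card_congr (K.equivMapOfInjective _ (MulAut.conj a).injective).toEquiv).symm

theorem sylow_conj {G : Type*} [Group G] [Finite G] {n m : ℕ} (hG : Nat.card G = 3 ^ n * m) (hm : ¬ 3 ∣ m)
    (A B : Subgroup G) (hA : Nat.card A = 3 ^ n) (hB : Nat.card B = 3 ^ n) : ∃ g, cmap g A = B := by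
  haveI : Fact (Nat.Prime 3) := ⟨by norm_num⟩
  have key : ∀ C : Subgroup G, Nat.card C = 3 ^ n → ∃ S : Sylow 3 G, (S : Subgroup G) = C := fun C hC => by
    have hidx : ¬ 3 ∣ C.index := by
      have := C.card_mul_index
      rw [hG, hC] at this
      rwa [mul_left_cancel₀ (by positivity) this]
    exact ⟨(IsPGroup.of_card hC).toSylow hidx, rfl⟩
  obtain ⟨SA, rfl⟩ := key A hA
  obtain ⟨SB, rfl⟩ := key B hB
  obtain ⟨g, rfl⟩ := MulAction.exists_smul_eq G SA SB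
  exact ⟨g, rfl⟩

theorem card_G6 : Nat.card G6 = 27590492160 := by
  have h2 : Fintype.card F4 = 2 ^ 2 := by rw [card_F4]; norm_num
  have hc := Cfsg.Agent.S0279.result (F := F4) (q := 2) h2 6 (by norm_num)
  have hp := Cfsg.Agent.S0280.result (F := F4) (q := 2) h2 6 (by norm_num)
  replace hc : Nat.card (Subgroup.center G6) = 3 := hc
  replace hp : 3 * (3 * Nat.card (Cfsg.PSU 6 F4 2)) = 82771476480 := hp.trans (by decide +kernel)
  rw [Subgroup.card_eq_card_quotient_mul_card_subgroup (Subgroup.center G6), hc]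
  show Nat.card (Cfsg.PSU 6 F4 2) * 3 = 27590492160
  omega

theorem comap_map_pmap {S : Subgroup G6} (hS : Zs ≤ S) : (S.map pmap).comap pmap = S :=
  Subgroup.comap_map_eq_self (by rwa [QuotientGroup.ker_mk'])

variable {F9 : Type} [Field F9] [Fintype F9] (hF9 : Fintype.card F9 = 9)
variable {K K₀ : Subgroup G6}

/-- An identification of two covers modulo the centre which respects the Sylow three subgroup. -/
structure Link (K K₀ : Subgroup G6) where
  /-- The identification. -/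
  χ : K.map pmap →* G6 ⧸ Zs
  inj : Function.Injective χ
  range : χ.range = K₀.map pmap
  mapP : ((P.map pmap).subgroupOf (K.map pmap)).map χ = P.map pmap

include hF9 in
theorem exists_link (hK : IsCover F9 K) (hK₀ : IsCover F9 K₀) (hP : P ≤ K) (hP₀ : P ≤ K₀) :
    Nonempty (Link K K₀) := by
  obtain ⟨-, ⟨e⟩⟩ := hK
  obtain ⟨-, ⟨e₀⟩⟩ := hK₀
  have hcard := CfsgLib.SchurTable.UFourThree.card_psu_four_three (F := F9) hF9
  have hPi : Nat.card (P.map pmap) = 729 := by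
    have := card_map_pmap hF9 (Zs_le_E.trans E_le_P)
    rw [card_P] at this
    omega
  let f : K.map pmap ≃* K₀.map pmap := e.symm.trans e₀
  have hA : Nat.card (((P.map pmap).subgroupOf (K.map pmap)).map f.toMonoidHom) = 3 ^ 6 := by
    rw [← Nat.card_congr (Subgroup.equivMapOfInjective _ _ f.injective).toEquiv,
      Nat.card_congr (Subgroup.subgroupOfEquivOfLe (Subgroup.map_mono hP)).toEquiv, hPi]
    norm_num
  have hB : Nat.card ((P.map pmap).subgroupOf (K₀.map pmap)) = 3 ^ 6 := by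
    rw [Nat.card_congr (Subgroup.subgroupOfEquivOfLe (Subgroup.map_mono hP₀)).toEquiv, hPi]
    norm_num
  obtain ⟨c, hc⟩ := sylow_conj (n := 6) (m := 4480)
    (by rw [← Nat.card_congr e₀.toEquiv, hcard]; norm_num) (by norm_num) _ _ hA hB
  let f' : K.map pmap ≃* K₀.map pmap := f.trans (MulAut.conj c)
  refine ⟨⟨(K₀.map pmap).subtype.comp f'.toMonoidHom, (K₀.map pmap).subtype_injective.comp f'.injective, ?_, ?_⟩⟩
  · rw [MonoidHom.range_comp, MonoidHom.range_eq_top.2 f'.surjective, ← MonoidHom.range_eq_map,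
      Subgroup.range_subtype]
  · rw [← Subgroup.map_map, show f'.toMonoidHom = (MulAut.conj c).toMonoidHom.comp f.toMonoidHom from rfl,
      ← Subgroup.map_map]
    exact (congrArg (Subgroup.map _) hc).trans (Subgroup.map_subgroupOf_eq_of_le (Subgroup.map_mono hP₀))

namespace Link

variable (L : Link K K₀)

/-- The map on the group. -/
def Φ : K →* G6 ⧸ Zs := L.χ.comp (pmap.subgroupMap K)

theorem Φ_apply (x : K) : L.Φ x = L.χ ⟨pmap x, Subgroup.mem_map_of_mem _ x.2⟩ := rfl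

theorem Φ_eq_iff (x y : K) : L.Φ x = L.Φ y ↔ pmap x = pmap y := by
  rw [Φ_apply, Φ_apply, L.inj.eq_iff, Subtype.mk.injEq]

/-- The image of a subgroup. -/
def img (S : Subgroup G6) : Subgroup (G6 ⧸ Zs) := ((S.map pmap).subgroupOf (K.map pmap)).map L.χ

theorem mem_img {S : Subgroup G6} (hS : S ≤ K) {q : G6 ⧸ Zs} :
    q ∈ L.img S ↔ ∃ x : K, (x : G6) ∈ S ∧ L.Φ x = q := by
  constructor
  · rintro ⟨⟨y, hy⟩, hy', rfl⟩
    obtain ⟨x, hx, rfl⟩ := hy'
    exact ⟨⟨x, hS hx⟩, hx, rfl⟩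
  · rintro ⟨x, hx, rfl⟩
    exact ⟨⟨pmap x, Subgroup.mem_map_of_mem _ x.2⟩, Subgroup.mem_map_of_mem _ hx, rfl⟩

theorem card_img {S : Subgroup G6} (hS : S ≤ K) : Nat.card (L.img S) = Nat.card (S.map pmap) := by
  rw [img, ← Nat.card_congr (Subgroup.equivMapOfInjective _ _ L.inj).toEquiv,
    Nat.card_congr (Subgroup.subgroupOfEquivOfLe (Subgroup.map_mono hS)).toEquiv]

theorem exists_lift {g₀ : G6} (h : g₀ ∈ K₀) : ∃ x : K, L.Φ x = pmap g₀ := by
  have : pmap g₀ ∈ L.χ.range := L.range ▸ Subgroup.mem_map_of_mem _ h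
  obtain ⟨⟨y, x, hx, rfl⟩, hy⟩ := this
  exact ⟨⟨x, hx⟩, hy⟩

theorem exists_image (x : K) : ∃ g₀ ∈ K₀, pmap g₀ = L.Φ x :=
  Subgroup.mem_map.1 (L.range ▸ (⟨_, rfl⟩ : L.Φ x ∈ L.χ.range))

variable (hP : P ≤ K)

include hP

include hF9 in
theorem img_E : L.img E = E.map pmap := by
  have hE : E ≤ K := E_le_P.trans hP
  have hle : L.img E ≤ P.map pmap := by
    rw [← L.mapP]
    exact Subgroup.map_mono (Subgroup.comap_mono (Subgroup.map_mono E_le_P))
  have hz : Zs ≤ (L.img E).comap pmap := fun g hg => by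
    rw [Subgroup.mem_comap, show pmap g = 1 from (QuotientGroup.eq_one_iff g).2 hg]
    exact one_mem _
  have hmap : ((L.img E).comap pmap).map pmap = L.img E :=
    Subgroup.map_comap_eq_self_of_surjective (QuotientGroup.mk'_surjective _) _
  have hT : (L.img E).comap pmap = E := by
    refine eq_E ?_ ?_ ?_
    · exact (Subgroup.comap_mono hle).trans (comap_map_pmap (Zs_le_E.trans E_le_P)).le
    · rw [card_map_pmap hF9 hz, hmap, L.card_img hE, ← card_map_pmap hF9 Zs_le_E, card_E]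
    · intro a ha b hb
      obtain ⟨x, hx, hxa⟩ := (L.mem_img hE).1 ha
      obtain ⟨y, hy, hyb⟩ := (L.mem_img hE).1 hb
      rw [← pmap_comm_iff, ← hxa, ← hyb, ← map_mul, ← map_mul]
      exact congrArg L.Φ (Subtype.ext (E_comm _ hx _ hy))
  rw [← hmap, hT]

include hF9 in
theorem mem_E_iff (x : K) {e : G6} (h : pmap e = L.Φ x) : e ∈ E ↔ (x : G6) ∈ E := by
  have hE : E ≤ K := E_le_P.trans hP
  constructor
  · intro he
    obtain ⟨y, hy, hyx⟩ := (L.mem_img hE).1 (L.img_E hF9 hP ▸ (h ▸ Subgroup.mem_map_of_mem _ he) : L.Φ x ∈ L.img E)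
    rw [Φ_eq_iff] at hyx
    rw [← comap_map_pmap Zs_le_E, Subgroup.mem_comap, ← hyx]
    exact Subgroup.mem_map_of_mem _ hy
  · intro hx
    rw [← comap_map_pmap Zs_le_E, Subgroup.mem_comap, h, ← L.img_E hF9 hP]
    exact (L.mem_img hE).2 ⟨x, hx, rfl⟩

include hF9 in
theorem mem_Mon_iff (g : K) {g₀ : G6} (hg₀ : g₀ ∈ K₀) (hP₀ : P ≤ K₀) (h : pmap g₀ = L.Φ g) :
    g₀ ∈ Mon ↔ (g : G6) ∈ Mon := by
  constructor
  · intro hm
    refine mem_Mon_of_normE fun x hx => ?_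
    obtain ⟨e, -, he⟩ := L.exists_image ⟨x, hP (E_le_P hx)⟩
    exact (L.mem_E_iff hF9 hP (g⁻¹ * ⟨x, hP (E_le_P hx)⟩ * g) (e := g₀⁻¹ * e * g₀) (by
      simp only [map_mul, map_inv, h, he])).1
      (normE_of_mem hm e ((L.mem_E_iff hF9 hP ⟨x, hP (E_le_P hx)⟩ he).2 hx))
  · intro hm
    refine mem_Mon_of_normE fun e he => ?_
    obtain ⟨x, hx⟩ := L.exists_lift (hP₀ (E_le_P he))
    have hxE : (x : G6) ∈ E := (L.mem_E_iff hF9 hP x hx.symm).1 he
    exact (L.mem_E_iff hF9 hP (g⁻¹ * x * g) (e := g₀⁻¹ * e * g₀) (by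
      simp only [map_mul, map_inv, h, hx])).2 (normE_of_mem hm _ hxE)

theorem exists_zz_pow (hP₀ : P ≤ K₀) : ∃ k : ℕ, L.Φ ⟨zz, hP (E_le_P zz_mem_E)⟩ = pmap zz ^ k := by
  have hmem : L.Φ ⟨zz, hP (E_le_P zz_mem_E)⟩ ∈ P.map pmap := by
    rw [← L.mapP]
    exact (L.mem_img hP).2 ⟨_, E_le_P zz_mem_E, rfl⟩
  obtain ⟨w, hw, hwz⟩ := hmem
  obtain ⟨u, v, hwe⟩ := block_of_central hw fun p hp => by
    have : pmap p ∈ ((P.map pmap).subgroupOf (K.map pmap)).map L.χ := by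
      rw [L.mapP]; exact Subgroup.mem_map_of_mem _ hp
    obtain ⟨x, hx, hxp⟩ := (L.mem_img hP).1 this
    rw [← pmap_comm_iff, show pmap w = L.Φ _ from hwz, ← hxp, ← map_mul, ← map_mul, Φ_eq_iff]
    have := zz_comm hx
    rw [mul_inv_eq_one, mul_inv_eq_iff_eq_mul] at this
    exact congrArg pmap (this.symm)
  exact ⟨(v - u).val, hwz.symm.trans (pmap_block hwe)⟩

theorem mem_Lz_of_image (g : K) {g₀ : G6} (hL : g₀ ∈ Lz) (hP₀ : P ≤ K₀) (h : pmap g₀ = L.Φ g) :
    (g : G6) ∈ Lz := by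
  obtain ⟨k, hk⟩ := L.exists_zz_pow hP hP₀
  have hc : L.Φ (g * ⟨zz, hP (E_le_P zz_mem_E)⟩) = L.Φ (⟨zz, hP (E_le_P zz_mem_E)⟩ * g) := by
    rw [map_mul, map_mul, hk, ← h]
    exact (show Commute (pmap g₀) (pmap zz) from mem_Lz.1 hL).pow_right k
  rw [Φ_eq_iff] at hc
  exact mem_Lz.2 ((map_mul pmap _ _).symm.trans (hc.trans (map_mul pmap _ _)))

end Link

theorem mgen_cube : ∀ k : Fin 9, eqC (evalC [genC k.val] [0, 0, 0]) (scalC 1) = true := by decide +kernel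

include hF9 in
/-- The monomial part of a cover containing the Sylow three subgroup. -/
theorem cover_inter (hK : IsCover F9 K) (hP : P ≤ K) :
    K ⊓ Mon = M0 ∧ ∃ g ∈ K, g ∈ Lz ∧ g ∉ Mon := by
  have hP₀ : P ≤ model 0 := P_le_M0.trans (M0_le_model 0)
  obtain ⟨L⟩ := exists_link hF9 hK (model_cover 0 hF9) hP hP₀
  refine ⟨?_, ?_⟩
  swap
  · obtain ⟨g, hg⟩ := L.exists_lift (hel_mem 0)
    exact ⟨g, g.2, L.mem_Lz_of_image hP g (hel_mem_Lz 0) hP₀ hg.symm,
      fun h => hel_not_mem 0 ((L.mem_Mon_iff hF9 hP g (hel_mem 0) hP₀ hg.symm).2 h)⟩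
  have hKM : K ⊓ Mon ≤ K := inf_le_left
  have himg : L.img (K ⊓ Mon) = M0.map pmap := by
    ext q
    rw [L.mem_img hKM]
    constructor
    · rintro ⟨x, hx, rfl⟩
      obtain ⟨g₀, hg₀, h⟩ := L.exists_image x
      have := (L.mem_Mon_iff hF9 hP x hg₀ hP₀ h).2 hx.2
      exact ⟨g₀, model_inter 0 hF9 ▸ ⟨hg₀, this⟩, h⟩
    · rintro ⟨g₀, hg₀, rfl⟩
      obtain ⟨x, hx⟩ := L.exists_lift (M0_le_model 0 hg₀)
      exact ⟨x, ⟨x.2, (L.mem_Mon_iff hF9 hP x (M0_le_model 0 hg₀) hP₀ hx.symm).1 (M0_le_Mon hg₀)⟩, hx⟩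
  have hzM : Zs ≤ K ⊓ Mon := le_inf hK.1 (Zs_le_E.trans (MonS_mono bot_le))
  have hcard : Nat.card ↥(K ⊓ Mon) = 87480 := by
    rw [card_map_pmap hF9 hzM, ← L.card_img hKM, himg,
      ← card_map_pmap hF9 (Zs_le_E.trans (E_le_P.trans P_le_M0)), card_M0]
  have hidx : ((K ⊓ Mon).subgroupOf Mon).index = 2 := by
    have := ((K ⊓ Mon).subgroupOf Mon).card_mul_index
    rw [Nat.card_congr (Subgroup.subgroupOfEquivOfLe (inf_le_right : K ⊓ Mon ≤ Mon)).toEquiv, hcard,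
      card_Mon] at this
    omega
  refine (Subgroup.eq_of_le_of_card_ge (M0_le fun k => ?_) (by rw [hcard, card_M0])).symm
  have h3 : (⟨mgen k, mem_Mon (mt_mgen k)⟩ : Mon) = (⟨mgen k, mem_Mon (mt_mgen k)⟩ ^ 2) ^ 2 := by
    refine Subtype.ext (mt_injective ?_)
    have h := toM_eq_of_eqC (mgen_cube k)
    simp only [evalC, toM_prodC, toM_one, List.getD_cons_zero, toM_genC, mul_one] at h
    simp only [SubmonoidClass.coe_pow, ← pow_mul, map_pow]
    rw [show 2 * 2 = 3 + 1 from rfl, pow_succ, show mt (mgen k) ^ 3 = 1 by rw [pow_three]; exact h, one_mul]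
  have := Subgroup.sq_mem_of_index_two hidx (⟨mgen k, mem_Mon (mt_mgen k)⟩ ^ 2)
  rw [← h3] at this
  exact this

end CfsgLib.SU6Cover
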