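import Cfsg.Agent.Lib.SU6Cover.Mono
import Cfsg.Agent.Lib.SU6Cover.ChecksRel
import Cfsg.Agent.Lib.SU6Cover.ChecksWords
import Cfsg.Agent.Lib.SchurTable.UFourThreeChecks
import Cfsg.Agent.Lib.SchurTable.UFourThreeModel
import Cfsg.Agent.S0283

/-! The three models of the triple cover of `PSU₄(3)` inside `SU₆(2)`. -/

set_option autoImplicit false
set_option maxRecDepth 100000
set_option maxHeartbeats 1000000

namespace CfsgLib.SU6Cover

open Matrix

variable (i : Fin 3)

theorem exists_X : ∃ g : G6, mt g = toM (tabX.getD i.val []) := by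
  have h := gen_ok i
  simp only [okGen, Bool.and_eq_true] at h
  exact exists_mk (o := 5) h.1.1.1.1.1 h.1.1.1.1.2 (by decide)

theorem exists_Y : ∃ g : G6, mt g = toM (tabY.getD i.val []) := by
  have h := gen_ok i
  simp only [okGen, Bool.and_eq_true] at h
  exact exists_mk (o := 7) h.1.1.1.2 h.1.1.2 (by decide)

/-- The first generator. -/
noncomputable def gX : G6 := (exists_X i).choose

/-- The second generator. -/
noncomputable def gY : G6 := (exists_Y i).choose

theorem mt_gX : mt (gX i) = toM (tabX.getD i.val []) := (exists_X i).choose_spec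

theorem mt_gY : mt (gY i) = toM (tabY.getD i.val []) := (exists_Y i).choose_spec

/-- The letters. -/
noncomputable def glet : ℕ → G6
  | 0 => gX i
  | 1 => gY i
  | 2 => (gX i)⁻¹
  | 3 => (gY i)⁻¹
  | 4 => z0
  | _ => z0⁻¹

/-- A model. -/
noncomputable def model : Subgroup G6 := Subgroup.closure {gX i, gY i, z0}

theorem gX_mem : gX i ∈ model i := Subgroup.subset_closure (Set.mem_insert _ _)

theorem gY_mem : gY i ∈ model i := Subgroup.subset_closure (Set.mem_insert_of_mem _ (Set.mem_insert _ _))

theorem z0_mem : z0 ∈ model i :=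
  Subgroup.subset_closure (Set.mem_insert_of_mem _ (Set.mem_insert_of_mem _ (Set.mem_singleton _)))

theorem Zs_le_model : Zs ≤ model i := Subgroup.zpowers_le.2 (z0_mem i)

theorem glet_mem : ∀ k, glet i k ∈ model i
  | 0 => gX_mem i
  | 1 => gY_mem i
  | 2 => inv_mem (gX_mem i)
  | 3 => inv_mem (gY_mem i)
  | 4 => z0_mem i
  | _ + 5 => inv_mem (z0_mem i)

theorem toM_scal2 : toM (scalC 2) = mt z0 := by rw [mt_z0]; decide +kernel

theorem toM_lets : ∀ k < 6, toM ((letsC i.val).getD k []) = mt (glet i k) := by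
  have e3 : toM (scalC 3) = mt z0⁻¹ := by
    rw [← toM_tconjC_mt toM_scal2]
    decide +kernel
  intro k hk
  interval_cases k
  · exact (mt_gX i).symm
  · exact (mt_gY i).symm
  · exact toM_tconjC_mt (mt_gX i).symm
  · exact toM_tconjC_mt (mt_gY i).symm
  · exact toM_scal2
  · exact e3

theorem mem_model {w : List ℕ} {x : G6} (hw : letOk 6 w = true)
    (he : toM (evalC (letsC i.val) w) = mt x) : x ∈ model i :=
  mem_of_word (toM_lets i) (fun k _ => glet_mem i k) hw he

theorem exists_model {w : List ℕ} {A : List ℕ} (hw : letOk 6 w = true)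
    (he : eqC (evalC (letsC i.val) w) A = true) : ∃ x ∈ model i, mt x = toM A :=
  ⟨_, (model i).list_prod_mem (fun y hy => by
      obtain ⟨k, -, rfl⟩ := List.mem_map.1 hy
      exact glet_mem i k),
    (toM_evalC (letsC i.val) (glet i) w fun k hk => toM_lets i k (letOk_lt hw k hk)).symm.trans
      (toM_eq_of_eqC he)⟩

/-! ### The covers -/

section
variable (F9 : Type) [Field F9] [Fintype F9]

/-- A subgroup over the centre with quotient `PSU₄(3)`. -/
def IsCover (K : Subgroup G6) : Prop := Zs ≤ K ∧ Nonempty (Cfsg.PSU 4 F9 3 ≃* K.map pmap)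

variable {F9} (hF9 : Fintype.card F9 = 9)
include hF9

theorem psu_simple : IsSimpleGroup (Cfsg.PSU 4 F9 3) :=
  Cfsg.Agent.S0283.result (F := F9) (q := 3) (by rw [hF9]; norm_num) 4 (by norm_num) (by simp)

theorem psu_center : Subgroup.center (Cfsg.PSU 4 F9 3) = ⊥ := by
  have hs := psu_simple hF9
  refine ((inferInstance : (Subgroup.center (Cfsg.PSU 4 F9 3)).Normal).eq_bot_or_eq_top).resolve_right fun htop => ?_
  have hcard := CfsgLib.SchurTable.UFourThree.card_psu_four_three (F := F9) hF9
  have : Finite (Cfsg.PSU 4 F9 3) := Nat.finite_of_card_ne_zero (by omega)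
  let _inst : CommGroup (Cfsg.PSU 4 F9 3) :=
    { (inferInstance : Group (Cfsg.PSU 4 F9 3)) with
      mul_comm := fun a b => Subgroup.mem_center_iff.1 (htop ▸ Subgroup.mem_top b) a }
  have := IsSimpleGroup.prime_card (α := Cfsg.PSU 4 F9 3)
  rw [hcard] at this
  norm_num at this

theorem card_map_pmap {S : Subgroup G6} (hS : Zs ≤ S) :
    Nat.card S = 3 * Nat.card (S.map pmap) := by
  rw [Subgroup.card_eq_card_quotient_mul_card_subgroup (pmap.comp S.subtype).ker, mul_comm,
    Nat.card_congr (QuotientGroup.quotientKerEquivRange _).toEquiv, MonoidHom.range_comp,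
    Subgroup.range_subtype, ← MonoidHom.comap_ker, QuotientGroup.ker_mk', ← card_Zs]
  congr 1
  exact Nat.card_congr (Subgroup.subgroupOfEquivOfLe hS).toEquiv

theorem card_cover {K : Subgroup G6} (hK : IsCover F9 K) : Nat.card K = 9797760 := by
  obtain ⟨hz, ⟨e⟩⟩ := hK
  rw [card_map_pmap hF9 hz, ← Nat.card_congr e.toEquiv,
    CfsgLib.SchurTable.UFourThree.card_psu_four_three (F := F9) hF9]

theorem center_cover {K : Subgroup G6} (hK : IsCover F9 K) :
    Subgroup.center K = Zs.subgroupOf K := by
  obtain ⟨hz, ⟨e⟩⟩ := hK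
  refine le_antisymm (fun x hx => ?_) fun x hx => Subgroup.mem_center_iff.2 fun y => Subtype.ext ?_
  · rw [Subgroup.mem_subgroupOf, ← QuotientGroup.eq_one_iff]
    have hc : e.symm ⟨pmap x, Subgroup.mem_map_of_mem _ x.2⟩ ∈ Subgroup.center (Cfsg.PSU 4 F9 3) := by
      refine Subgroup.mem_center_iff.2 fun y => e.injective ?_
      rw [map_mul, map_mul, e.apply_symm_apply]
      obtain ⟨k, hk, hky⟩ := (e y).2
      refine Subtype.ext ?_
      show (e y : G6 ⧸ Zs) * pmap x = pmap x * (e y : G6 ⧸ Zs)
      rw [← hky, ← map_mul, ← map_mul]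
      exact congrArg pmap (congrArg Subtype.val (Subgroup.mem_center_iff.1 hx ⟨k, hk⟩))
    rw [psu_center hF9, Subgroup.mem_bot, MulEquiv.map_eq_one_iff] at hc
    exact congrArg Subtype.val hc
  · obtain ⟨n, hn⟩ := Subgroup.mem_zpowers_iff.1 (Subgroup.mem_subgroupOf.1 hx)
    show (y : G6) * x = x * y
    rw [← hn]
    exact (show Commute (y : G6) z0 from z0_comm _).zpow_right n |>.eq

theorem card_center_cover {K : Subgroup G6} (hK : IsCover F9 K) : Nat.card (Subgroup.center K) = 3 := by
  rw [center_cover hF9 hK, ← card_Zs]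
  exact Nat.card_congr (Subgroup.subgroupOfEquivOfLe hK.1).toEquiv

theorem quotient_cover {K : Subgroup G6} (hK : IsCover F9 K) :
    Nonempty (K ⧸ Subgroup.center K ≃* Cfsg.PSU 4 F9 3) := by
  have hc := center_cover hF9 hK
  obtain ⟨-, ⟨e⟩⟩ := hK
  have hker : Subgroup.center K = (pmap.comp K.subtype).ker := by
    rw [hc, ← MonoidHom.comap_ker, QuotientGroup.ker_mk']; rfl
  exact ⟨((QuotientGroup.quotientMulEquivOfEq hker).trans ((QuotientGroup.quotientKerEquivRange _).trans
    (MulEquiv.subgroupCongr (by rw [MonoidHom.range_comp, Subgroup.range_subtype])))).trans e.symm⟩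

theorem model_cover : IsCover F9 (model i) := by
  open CfsgLib.SchurTable in open CfsgLib.SchurTable.UFourThree in
  exact (by
    obtain ⟨φ, hφ, hrel⟩ := exists_pres (F := F9) hF9
    have hcard := card_psu_four_three (F := F9) hF9
    have : Finite (Cfsg.PSU 4 F9 3) := Nat.finite_of_card_ne_zero (by omega)
    have hkers := Level.exact_two φ linked hφ hrel (by rw [hcard]; exact le_of_eq (by decide +kernel))
    let g : ℕ → G6 := fun n => if n = 0 then gX i else gY i
    let ψ : FreeGroup (Fin 2) →* G6 ⧸ Zs := FreeGroup.lift fun j => pmap (g j.val)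
    have hgen : ∀ n, ψ (fgen n) = pmap (g n) := by
      rintro (_ | n) <;> simp [ψ, fgen, g]
    have hψ : φ.ker ≤ ψ.ker := by
      rw [hkers.1]
      refine Subgroup.normalClosure_le_normal ?_
      rintro r ⟨j, hj, rfl⟩
      show ψ (wval fgen (relWords.getD j [])) = 1
      have hj' : relWords.getD j [] ∈ relWords := by
        rw [List.getD_eq_getElem (l := relWords) (d := []) hj]; exact List.getElem_mem _
      have hc := rel_ok i
      simp only [List.all_eq_true, Bool.and_eq_true] at hc
      obtain ⟨h1, h2⟩ := hc _ hj'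
      generalize relWords.getD j [] = w at h1 h2 ⊢
      rw [map_wval, show (fun n => ψ (fgen n)) = fun n => pmap (g n) from funext hgen, ← map_wval]
      refine (QuotientGroup.eq_one_iff (wval g w)).2
        (mem_Zs_of_isScalC (A := evalC (letsC i.val) w) h2 ?_)
      rw [toM_evalC (letsC i.val) (lett g) w]
      · rfl
      intro k hk
      have := letOk_lt h1 k hk
      rw [toM_lets i k (by omega)]
      refine congrArg mt ?_
      interval_cases k
      all_goals rfl
    let θ := MonoidHom.liftOfSurjective φ hφ ⟨ψ, hψ⟩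
    have hθ : ∀ x, θ (φ x) = ψ x := fun x => MonoidHom.liftOfRightInverse_comp_apply _ _ _ _ x
    have hinj : Function.Injective θ := by
      rw [← MonoidHom.ker_eq_bot_iff]
      have := psu_simple hF9
      refine ((inferInstance : θ.ker.Normal).eq_bot_or_eq_top).resolve_right fun htop => ?_
      have h1 : pmap (gX i) = 1 := by
        have := hθ (FreeGroup.of 0)
        rw [show θ (φ (FreeGroup.of 0)) = 1 from MonoidHom.mem_ker.1 (htop ▸ Subgroup.mem_top _),
          show FreeGroup.of (0 : Fin 2) = fgen 0 from rfl, hgen] at this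
        simpa [g] using this.symm
      have h2 := isScalC_of_mem ((QuotientGroup.eq_one_iff _).1 h1) (mt_gX i).symm
      have h3 := gen_ok i
      simp only [okGen, Bool.and_eq_true, h2] at h3
      simp at h3
    have hrange : θ.range = (model i).map pmap := by
      have e1 : θ.range = ψ.range := le_antisymm (by
        rintro _ ⟨x, rfl⟩; obtain ⟨y, rfl⟩ := hφ x; exact ⟨y, (hθ y).symm⟩) (by
        rintro _ ⟨x, rfl⟩; exact ⟨φ x, hθ x⟩)
      rw [e1, FreeGroup.range_lift_eq_closure, model, MonoidHom.map_closure]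
      refine le_antisymm ((Subgroup.closure_le _).2 ?_) ((Subgroup.closure_le _).2 ?_)
      · rintro _ ⟨j, rfl⟩
        fin_cases j
        · exact Subgroup.subset_closure ⟨gX i, by simp, rfl⟩
        · exact Subgroup.subset_closure ⟨gY i, by simp, rfl⟩
      · rintro _ ⟨x, hx, rfl⟩
        simp only [Set.mem_insert_iff, Set.mem_singleton_iff] at hx
        obtain rfl | rfl | rfl := hx
        · exact Subgroup.subset_closure ⟨0, rfl⟩
        · exact Subgroup.subset_closure ⟨1, rfl⟩
        · rw [show pmap z0 = 1 from (QuotientGroup.eq_one_iff _).2 (Subgroup.mem_zpowers _)]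
          exact one_mem _
    exact ⟨Zs_le_model i, ⟨(MonoidHom.ofInjective hinj).trans (MulEquiv.subgroupCongr hrange)⟩⟩)

end

/-! ### The monomial part of a model -/

/-- The exponents of a generator of the monomial part. -/
def gE (k : Fin 9) : Fin 6 → ZMod 3 := fun j => (((genTab.getD k.val ([], [])).1.getD j.val 0 : ℕ) : ZMod 3)

/-- The permutation of a generator of the monomial part. -/
def gS (k : Fin 9) : Equiv.Perm (Fin 6) := swaps (genTab.getD k.val ([], [])).2

theorem gE_sum : ∀ k : Fin 9, ∑ j, gE k j = 0 := by decide +kernel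

/-- A generator of the monomial part. -/
def mgen (k : Fin 9) : G6 := mg (gE k) (gS k) (gE_sum k)

theorem mt_mgen (k : Fin 9) : mt (mgen k) = mon (gE k) (gS k) := rfl

theorem toM_genC (k : Fin 9) : toM (genC k.val) = mt (mgen k) := by
  rw [genC, toM_monC]; rfl

theorem mgen_mem_model (k : Fin 9) : mgen k ∈ model i := by
  have h := words_ok i
  simp only [okWords, Bool.and_eq_true, List.all_eq_true, List.mem_range] at h
  obtain ⟨h1, h2⟩ := h.1.1.1.1 k.val k.isLt
  exact mem_model i h1 ((toM_eq_of_eqC h2).trans (toM_genC k))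

theorem mgen_mem_M0 (k : Fin 9) : mgen k ∈ M0 := by
  rw [mem_MonS (mt_mgen k), Equiv.Perm.mem_alternatingGroup]
  revert k
  decide +kernel

theorem gS_diag : gS 0 = 1 ∧ gS 1 = 1 ∧ gS 2 = 1 ∧ gS 3 = 1 ∧ gS 4 = 1 := by decide +kernel

theorem partial_sums : ∀ e : Fin 6 → ZMod 3, ∑ j, e j = 0 →
    e = (e 0).val • gE 0 + (e 0 + e 1).val • gE 1 + (e 0 + e 1 + e 2).val • gE 2 +
      (e 0 + e 1 + e 2 + e 3).val • gE 3 + (e 0 + e 1 + e 2 + e 3 + e 4).val • gE 4 := by decide +kernel

theorem pair_perm : ∀ a b : Fin 6, a ≠ b → Equiv.swap a b * Equiv.swap (0 : Fin 6) 1 =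
    ((pairTab.getD (6 * a.val + b.val) []).map fun c => gS (Fin.ofNat 9 (c + 5))).prod := by decide +kernel

/-- A subgroup containing the generators contains the even monomial elements. -/
theorem M0_le {K : Subgroup G6} (hK : ∀ k, mgen k ∈ K) : M0 ≤ K := by
  have hE : E ≤ K := by
    intro x hx
    obtain ⟨e, he0, he⟩ := exists_of_mem_E hx
    obtain ⟨s0, s1, s2, s3, s4⟩ := gS_diag
    have hp : ∀ (k : Fin 9) (n : ℕ), gS k = 1 → mt (mgen k ^ n) = mon (n • gE k) 1 := fun k n hk => by
      rw [map_pow, mt_mgen, hk, mon_pow]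
    have : x = mgen 0 ^ (e 0).val * mgen 1 ^ (e 0 + e 1).val * mgen 2 ^ (e 0 + e 1 + e 2).val *
        mgen 3 ^ (e 0 + e 1 + e 2 + e 3).val * mgen 4 ^ (e 0 + e 1 + e 2 + e 3 + e 4).val :=
      mt_injective (by
        rw [map_mul, map_mul, map_mul, map_mul, hp 0 _ s0, hp 1 _ s1, hp 2 _ s2, hp 3 _ s3, hp 4 _ s4,
          mon_mul, mon_mul, mon_mul, mon_mul, he]
        simp only [Equiv.Perm.one_apply, mul_one]
        exact congrArg (fun f => mon f 1) (partial_sums e he0))
    rw [this]
    exact mul_mem (mul_mem (mul_mem (mul_mem (pow_mem (hK _) _) (pow_mem (hK _) _)) (pow_mem (hK _) _))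
      (pow_mem (hK _) _)) (pow_mem (hK _) _)
  let S : Subgroup (Equiv.Perm (Fin 6)) := ((K ⊓ Mon).subgroupOf Mon).map permHom
  have hgS : ∀ k, gS k ∈ S := fun k => by
    refine ⟨⟨mgen k, mem_Mon (mt_mgen k)⟩, ⟨hK k, mem_Mon (mt_mgen k)⟩, ?_⟩
    obtain ⟨e, he⟩ := permHom_spec ⟨mgen k, mem_Mon (mt_mgen k)⟩
    exact (mon_inj ((mt_mgen k).symm.trans he)).2.symm
  have hT : ∀ a b : Fin 6, a ≠ b → Equiv.swap a b * Equiv.swap (0 : Fin 6) 1 ∈ S := fun a b hab => by
    rw [pair_perm a b hab]
    exact S.list_prod_mem fun y hy => by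
      obtain ⟨c, -, rfl⟩ := List.mem_map.1 hy
      exact hgS _
  have key : ∀ σ : Equiv.Perm (Fin 6), (Equiv.Perm.sign σ = 1 → σ ∈ S) ∧
      (Equiv.Perm.sign σ = -1 → Equiv.swap (0 : Fin 6) 1 * σ ∈ S) := by
    intro σ
    induction σ using Equiv.Perm.swap_induction_on with
    | one => exact ⟨fun _ => S.one_mem, fun h => by simp at h⟩
    | swap_mul f x y hxy ih =>
      rw [Equiv.Perm.sign_mul, Equiv.Perm.sign_swap hxy]
      refine ⟨fun h => ?_, fun h => ?_⟩
      · have : Equiv.Perm.sign f = -1 := by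
          rcases Int.units_eq_one_or (Equiv.Perm.sign f) with hf | hf
          · rw [hf] at h; simp at h
          · exact hf
        have h' := S.mul_mem (hT x y hxy) (ih.2 this)
        rwa [mul_assoc, ← mul_assoc (Equiv.swap 0 1) (Equiv.swap 0 1), Equiv.swap_mul_self, one_mul] at h'
      · have : Equiv.Perm.sign f = 1 := by
          rcases Int.units_eq_one_or (Equiv.Perm.sign f) with hf | hf
          · exact hf
          · rw [hf] at h; simp at h
        have h' := S.mul_mem (S.inv_mem (hT x y hxy)) (ih.1 this)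
        rwa [_root_.mul_inv_rev, Equiv.swap_inv, Equiv.swap_inv, mul_assoc] at h'
  intro m hm
  obtain ⟨g, hg, hgm⟩ := (key (permHom ⟨m, M0_le_Mon hm⟩)).1
    (Equiv.Perm.mem_alternatingGroup.1 ((mem_MonS_iff_permHom ⟨m, M0_le_Mon hm⟩).1 hm))
  have h1 : ((g⁻¹ * ⟨m, M0_le_Mon hm⟩ : Mon) : G6) ∈ E :=
    (mem_MonS_iff_permHom _).2 (Subgroup.mem_bot.2 (by rw [map_mul, map_inv, hgm, inv_mul_cancel]))
  simpa using K.mul_mem hg.1 (hE h1)

theorem M0_le_model : M0 ≤ model i := M0_le (mgen_mem_model i)

theorem not_mem_Mon {g : G6} {A : List ℕ} (hA : toM A = mt g) (h : notMonC A = true) : g ∉ Mon := by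
  rintro ⟨e, σ, -, hg⟩
  simp only [notMonC, List.any_eq_true, List.mem_range, Bool.and_eq_true, Bool.not_eq_true'] at h
  obtain ⟨j, hj, r, hr, c, hc, h1, h2⟩ := h
  have key : ∀ t (ht : t < 6), Nat.beq (A.getD (6 * t + j) 0 % 4) 0 = false → σ ⟨j, hj⟩ = ⟨t, ht⟩ := by
    intro t ht hb
    have hne : mt g ⟨t, ht⟩ ⟨j, hj⟩ ≠ 0 := by
      rw [← hA]
      intro h0
      rw [dec_eq_zero h0] at hb
      simp at hb
    rw [hg] at hne
    by_contra hne'
    exact hne (by simp [mon, Ne.symm hne'])
  have := (key r hr h1).symm.trans (key c (by omega) h2)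
  simp only [Fin.mk.injEq] at this
  omega

/-- The odd monomial involution. -/
def tau : G6 := mg 0 (Equiv.swap 0 1) (by simp)

theorem toM_tauC : toM tauC = mt tau := by
  rw [tauC, toM_monC]
  exact congrArg₂ mon (funext fun j => by fin_cases j <;> rfl) (by decide +kernel)

theorem tau_mul_self : tau * tau = 1 := mt_injective (by
  rw [map_mul, show mt tau = mon 0 (Equiv.swap 0 1) from rfl, mon_mul, Equiv.swap_mul_self, map_one, ← mon_one]
  congr 1)

theorem tau_mem_Mon : tau ∈ Mon := mem_Mon (rfl : mt tau = mon 0 (Equiv.swap 0 1))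

theorem tau_mul_mem {m : G6} (hm : m ∈ Mon) (h : m ∉ M0) : tau * m ∈ M0 := by
  obtain ⟨e, σ, -, he⟩ := hm
  have hσ : Equiv.Perm.sign σ = -1 := (Int.units_eq_one_or _).resolve_left fun h1 =>
    h ((mem_MonS he).2 (Equiv.Perm.mem_alternatingGroup.2 h1))
  have : mt (tau * m) = mon (fun j => (0 : Fin 6 → ZMod 3) (σ j) + e j) (Equiv.swap 0 1 * σ) := by
    rw [map_mul, he, show mt tau = mon 0 (Equiv.swap 0 1) from rfl, mon_mul]
  rw [mem_MonS this, Equiv.Perm.mem_alternatingGroup, map_mul, hσ,
    Equiv.Perm.sign_swap (by decide : (0 : Fin 6) ≠ 1)]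
  decide

theorem exists_frame (a : Fin 57) : ∃ x ∈ model i, mt x = toM ((frameTab.getD i.val []).getD a.val []) := by
  have h := frameWord_ok i
  simp only [okFrameWord, Bool.and_eq_true, List.all_eq_true, List.mem_range] at h
  exact exists_model i (h a.val a.isLt).1 (h a.val a.isLt).2

/-- A listed coset representative. -/
noncomputable def fel (a : Fin 57) : G6 := (exists_frame i a).choose

theorem fel_mem (a : Fin 57) : fel i a ∈ model i := (exists_frame i a).choose_spec.1

theorem mt_fel (a : Fin 57) : mt (fel i a) = toM ((frameTab.getD i.val []).getD a.val []) :=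
  (exists_frame i a).choose_spec.2

theorem frame_sep {a b : Fin 57} (hba : b.val < a.val) :
    (fel i a)⁻¹ * (fel i b) ∉ Mon := by
  have h := frameSep_ok i
  simp only [okFrameSep, List.all_eq_true, List.mem_range] at h
  refine not_mem_Mon ?_ (h a.val a.isLt b.val hba)
  rw [toM_prodC, map_mul, toM_tconjC_mt (mt_fel i a).symm, mt_fel i b]

theorem model_inter {F9 : Type} [Field F9] [Fintype F9] (hF9 : Fintype.card F9 = 9) :
    model i ⊓ Mon = M0 := by
  refine le_antisymm (fun g hg => ?_) (le_inf (M0_le_model i) M0_le_Mon)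
  by_contra hng
  have htau : tau ∈ model i := by
    have := (model i).mul_mem (M0_le_model i (tau_mul_mem hg.2 hng)) ((model i).inv_mem hg.1)
    rwa [mul_inv_cancel_right] at this
  have hMon : Mon ≤ model i := fun m hm => by
    by_cases h : m ∈ M0
    · exact M0_le_model i h
    · have := (model i).mul_mem htau (M0_le_model i (tau_mul_mem hm h))
      rwa [← mul_assoc, tau_mul_self, one_mul] at this
  have hinj : Function.Injective fun p : Fin 57 × Mon =>
      (⟨fel i p.1 * p.2, (model i).mul_mem (fel_mem i p.1)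
        (hMon p.2.2)⟩ : model i) := by
    rintro ⟨a, m⟩ ⟨b, n⟩ h
    have h : (fel i a) * (m : G6) = (fel i b) * n := congrArg Subtype.val h
    have hab : (fel i a)⁻¹ * (fel i b) = m * (n : G6)⁻¹ := by
      rw [eq_mul_inv_iff_mul_eq, mul_assoc, ← h, inv_mul_cancel_left]
    obtain hlt | rfl | hlt := lt_trichotomy a b
    · refine absurd ?_ (frame_sep i hlt)
      rw [show (fel i b)⁻¹ * (fel i a) =
        ((fel i a)⁻¹ * (fel i b))⁻¹ by group, hab]
      exact Mon.inv_mem (Mon.mul_mem m.2 (Mon.inv_mem n.2))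
    · rw [Subtype.ext (mul_left_cancel h)]
    · refine absurd ?_ (frame_sep i hlt)
      rw [hab]
      exact Mon.mul_mem m.2 (Mon.inv_mem n.2)
  have := Nat.card_le_card_of_injective _ hinj
  rw [Nat.card_prod, Nat.card_fin, card_Mon, card_cover hF9 (model_cover i hF9)] at this
  norm_num at this

theorem exists_h : ∃ x ∈ model i, mt x = toM (tabH.getD i.val []) := by
  have h := words_ok i
  simp only [okWords, Bool.and_eq_true] at h
  exact exists_model i h.1.1.1.2 h.1.1.2

/-- The extra element of a model. -/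
noncomputable def hel : G6 := (exists_h i).choose

theorem hel_mem : hel i ∈ model i := (exists_h i).choose_spec.1

theorem mt_hel : mt (hel i) = toM (tabH.getD i.val []) := (exists_h i).choose_spec.2

theorem hel_not_mem : hel i ∉ Mon := by
  have h := words_ok i
  simp only [okWords, Bool.and_eq_true] at h
  exact not_mem_Mon (mt_hel i).symm h.1.2

theorem hel_mem_Lz : hel i ∈ Lz := by
  refine mem_of_blk fun r c hrc => ?_
  have h := words_ok i
  simp only [okWords, Bool.and_eq_true, List.all_eq_true, List.mem_range, Bool.or_eq_true] at h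
  have := (h.2 r.val r.isLt c.val c.isLt).resolve_left fun hb => hrc (Nat.eq_of_beq_eq_true hb)
  rw [mt_hel, toM, Matrix.of_apply, ← dec_mod, Nat.eq_of_beq_eq_true this]
  decide +kernel

/-- The letters of the reverse words. -/
noncomputable def xlet (k : ℕ) : G6 :=
  if k < 9 then mgen (Fin.ofNat 9 k) else if k = 9 then hel i
  else if k < 19 then (mgen (Fin.ofNat 9 (k - 10)))⁻¹ else (hel i)⁻¹

theorem toM_xlets : ∀ k < 20, toM ((xletsC i.val).getD k []) = mt (xlet i k) := by
  have hl : ∀ a < 10, toM (((List.range 9).map genC ++ [tabH.getD i.val []]).getD a []) =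
      mt (if a < 9 then mgen (Fin.ofNat 9 a) else hel i) := by
    intro a ha
    rw [List.getD_eq_getElem _ _ (by simp; omega)]
    by_cases h9 : a < 9
    · rw [List.getElem_append_left (by simpa using h9), List.getElem_map, List.getElem_range, if_pos h9,
        ← toM_genC, Fin.val_ofNat, Nat.mod_eq_of_lt h9]
    · rw [List.getElem_append_right (by simpa using h9), if_neg h9, mt_hel]
      simp
  intro k hk
  rw [xletsC]
  by_cases h10 : k < 10
  · rw [List.getD_append _ _ _ _ (by simp; omega), hl k h10, xlet]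
    by_cases h9 : k < 9
    · rw [if_pos h9, if_pos h9]
    · rw [if_neg h9, if_neg h9, if_pos (by omega)]
  · rw [List.getD_append_right _ _ _ _ (by simp; omega), List.getD_eq_getElem _ _ (by simp; omega),
      List.getElem_map, toM_tconjC_mt (g := if k - 10 < 9 then mgen (Fin.ofNat 9 (k - 10)) else hel i), xlet]
    · rw [if_neg (show ¬ k < 9 by omega), if_neg (show ¬ k = 9 by omega)]
      by_cases h19 : k < 19
      · rw [if_pos h19, if_pos (show k - 10 < 9 by omega)]
      · rw [if_neg h19, if_neg (show ¬ k - 10 < 9 by omega)]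
    · rw [← hl _ (by omega),
        List.getD_eq_getElem (l := (List.range 9).map genC ++ [tabH.getD i.val []]) (d := []) (by simp; omega)]
      simp

/-- A subgroup containing the monomial part and the extra element contains the model. -/
theorem model_le {K : Subgroup G6} (hM : M0 ≤ K) (hh : hel i ∈ K) : model i ≤ K := by
  have hlet : ∀ k < 20, xlet i k ∈ K := fun k _ => by
    unfold xlet
    split_ifs
    exacts [hM (mgen_mem_M0 _), hh, K.inv_mem (hM (mgen_mem_M0 _)), K.inv_mem hh]
  have h := back_ok i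
  simp only [okBack, Bool.and_eq_true] at h
  refine (Subgroup.closure_le _).2 ?_
  simp only [Set.insert_subset_iff, Set.singleton_subset_iff, SetLike.mem_coe]
  exact ⟨mem_of_word (toM_xlets i) hlet h.1.1.1 ((toM_eq_of_eqC h.1.2).trans (mt_gX i).symm),
    mem_of_word (toM_xlets i) hlet h.1.1.2 ((toM_eq_of_eqC h.2).trans (mt_gY i).symm),
    hM (P_le_M0 (E_le_P (Zs_le_E (Subgroup.mem_zpowers z0))))⟩

/-- The odd monomial involution normalises a model. -/
theorem tau_conj : (model i).map (MulAut.conj tau).toMonoidHom ≤ model i := by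
  have hinv : tau⁻¹ = tau := inv_eq_of_mul_eq_one_right tau_mul_self
  have h := tau_ok i
  simp only [okTau, Bool.and_eq_true] at h
  rw [model, MonoidHom.map_closure, Subgroup.closure_le]
  rintro _ ⟨x, hx, rfl⟩
  simp only [Set.mem_insert_iff, Set.mem_singleton_iff] at hx
  show tau * x * tau⁻¹ ∈ model i
  rw [hinv]
  obtain rfl | rfl | rfl := hx
  · exact mem_model i h.1.1.1 ((toM_eq_of_eqC h.1.2).trans (by
      rw [toM_prodC, toM_prodC, toM_tauC, map_mul, map_mul, mt_gX]))
  · exact mem_model i h.1.1.2 ((toM_eq_of_eqC h.2).trans (by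
      rw [toM_prodC, toM_prodC, toM_tauC, map_mul, map_mul, mt_gY]))
  · rw [z0_comm, mul_assoc, tau_mul_self, mul_one]
    exact Zs_le_model i (Subgroup.mem_zpowers z0)

end CfsgLib.SU6Cover
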