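import Cfsg.Agent.Lib.SU6Cover.Checks

/-!
The monomial subgroup of `SU₆(2)`, its Sylow three subgroup and the centraliser of the element splitting the
coordinates into two blocks.
-/

set_option autoImplicit false
set_option maxRecDepth 100000

namespace CfsgLib.SU6Cover

open Matrix

/-! ### Words -/

theorem eqC_of_toM_eq {A B : List ℕ} (h : toM A = toM B) : eqC A B = true := by
  simp only [eqC, List.all_eq_true, List.mem_range]
  intro k hk
  have h1 := congrFun (congrFun h ⟨k / 6, by omega⟩) ⟨k % 6, by omega⟩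
  simp only [toM, Matrix.of_apply, show 6 * (k / 6) + k % 6 = k by omega] at h1
  rw [← dec_mod, ← dec_mod (B.getD k 0)] at h1
  have := congrArg Fin.val (dec_inj ⟨_, Nat.mod_lt _ (by norm_num : 4 > 0)⟩ ⟨_, Nat.mod_lt _ (by norm_num : 4 > 0)⟩ h1)
  simpa using this

theorem mt_inv (g : G6) : mt g⁻¹ = ((mt g).map (· ^ 2))ᵀ := by
  have h1 : mt g * mt g⁻¹ = 1 := by rw [← map_mul, mul_inv_cancel, map_one]
  have h2 : ((mt g).map (· ^ 2))ᵀ * mt g = 1 := by
    have := congrArg Matrix.transpose (mt_unitary g)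
    rwa [transpose_mul, transpose_transpose, transpose_one] at this
  exact (left_inv_eq_right_inv h2 h1).symm

theorem toM_tconjC_mt {A : List ℕ} {g : G6} (h : toM A = mt g) : toM (tconjC A) = mt g⁻¹ := by
  rw [toM_tconjC, h, mt_inv]

theorem toM_evalC (L : List (List ℕ)) (g : ℕ → G6) : ∀ w : List ℕ,
    (∀ k ∈ w, toM (L.getD k []) = mt (g k)) → toM (evalC L w) = mt (w.map g).prod
  | [], _ => by rw [evalC, toM_one, List.map_nil, List.prod_nil, map_one]
  | r :: w, h => by
    rw [evalC, toM_prodC, h r (by simp), toM_evalC L g w fun k hk => h k (List.mem_cons_of_mem _ hk),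
      List.map_cons, List.prod_cons, map_mul]

theorem letOk_lt {n : ℕ} {w : List ℕ} (h : letOk n w = true) : ∀ k ∈ w, k < n := fun k hk => by
  simp only [letOk, List.all_eq_true] at h
  exact Nat.le_of_ble_eq_true (h k hk)

/-- An element given by a word lies in a subgroup containing its letters. -/
theorem mem_of_word {K : Subgroup G6} {L : List (List ℕ)} {g : ℕ → G6} {n : ℕ} {w : List ℕ} {x : G6}
    (hL : ∀ k < n, toM (L.getD k []) = mt (g k)) (hg : ∀ k < n, g k ∈ K) (hw : letOk n w = true)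
    (he : toM (evalC L w) = mt x) : x ∈ K := by
  have := toM_evalC L g w fun k hk => hL k (letOk_lt hw k hk)
  rw [← mt_injective (this.symm.trans he)]
  exact K.list_prod_mem fun y hy => by
    obtain ⟨k, hk, rfl⟩ := List.mem_map.1 hy
    exact hg k (letOk_lt hw k hk)

/-! ### Scalars -/

theorem mon_diag (e : Fin 6 → ZMod 3) : mon e 1 = Matrix.diagonal fun j => wp (e j) := by
  ext i j : 1
  simp [mon, Matrix.diagonal_apply]
  split <;> simp_all

theorem mon_pow (e : Fin 6 → ZMod 3) : ∀ n : ℕ, mon e 1 ^ n = mon (n • e) 1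
  | 0 => by rw [pow_zero, zero_smul, mon_one]
  | n + 1 => by
    rw [pow_succ, mon_pow e n, mon_mul, succ_nsmul]
    simp only [Equiv.Perm.one_apply, mul_one]
    rfl

/-- The central element of order three. -/
def z0 : G6 := mg (fun _ => 1) 1 (by decide)

theorem mt_z0 : mt z0 = mon (fun _ => 1) 1 := rfl

/-- The centre. -/
abbrev Zs : Subgroup G6 := Subgroup.zpowers z0

theorem const_comm (k : ZMod 3) (M : Matrix (Fin 6) (Fin 6) F4) :
    mon (fun _ => k) 1 * M = M * mon (fun _ => k) 1 := by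
  rw [mon_diag]
  ext i j : 1
  simp [mul_comm]

theorem z0_comm (g : G6) : g * z0 = z0 * g := mt_injective (by rw [map_mul, map_mul, mt_z0, const_comm])

instance normalZs : Zs.Normal := ⟨fun n hn g => by
  obtain ⟨k, rfl⟩ := hn
  simpa [(show Commute g z0 from z0_comm g).zpow_right k |>.eq] using Subgroup.zpow_mem_zpowers z0 k⟩

theorem z0_pow (n : ℕ) : mt (z0 ^ n) = mon (fun _ => (n : ZMod 3)) 1 := by
  rw [map_pow, mt_z0, mon_pow]
  congr 1
  funext j
  simp

theorem mem_Zs {g : G6} {k : ZMod 3} (h : mt g = mon (fun _ => k) 1) : g ∈ Zs := by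
  have : g = z0 ^ k.val := mt_injective (by rw [z0_pow, h, ZMod.natCast_val, ZMod.cast_id])
  rw [this]
  exact Subgroup.npow_mem_zpowers _ _

theorem orderOf_z0 : orderOf z0 = 3 := by
  refine orderOf_eq_prime (mt_injective ?_) fun h => ?_
  · rw [z0_pow, map_one, ← mon_one]
    congr 1
  · have := (mon_inj ((mt_z0.symm.trans (congrArg mt h)).trans (map_one mt |>.trans mon_one.symm))).1
    exact absurd (congrFun this 0) (by decide)

theorem card_Zs : Nat.card Zs = 3 := by rw [Nat.card_zpowers, orderOf_z0]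

theorem exists_scalar {g : G6} (h : g ∈ Zs) : ∃ k : ZMod 3, mt g = mon (fun _ => k) 1 := by
  obtain ⟨n, rfl⟩ := (mem_powers_iff_mem_zpowers.2 h : g ∈ Submonoid.powers z0)
  exact ⟨n, z0_pow n⟩

theorem scal_mon : ∀ k : Fin 3, toM (scalC (k.val + 1)) = mon (fun _ => (k.val : ZMod 3)) 1 := by
  decide +kernel

theorem exists_of_isScalC {A : List ℕ} (h : isScalC A = true) : ∃ k : ZMod 3, toM A = mon (fun _ => k) 1 := by
  simp only [isScalC, Bool.or_eq_true] at h
  obtain h | h := h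
  · obtain h | h := h
    · exact ⟨_, (toM_eq_of_eqC h).trans (scal_mon 0)⟩
    · exact ⟨_, (toM_eq_of_eqC h).trans (scal_mon 1)⟩
  · exact ⟨_, (toM_eq_of_eqC h).trans (scal_mon 2)⟩

theorem mem_Zs_of_isScalC {A : List ℕ} {g : G6} (h : isScalC A = true) (hg : toM A = mt g) : g ∈ Zs := by
  obtain ⟨k, hk⟩ := exists_of_isScalC h
  exact mem_Zs (hg.symm.trans hk)

theorem isScalC_of_mem {A : List ℕ} {g : G6} (h : g ∈ Zs) (hg : toM A = mt g) : isScalC A = true := by
  obtain ⟨k, hk⟩ := exists_scalar h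
  simp only [isScalC, Bool.or_eq_true]
  fin_cases k
  · exact Or.inl (Or.inl (eqC_of_toM_eq ((hg.trans hk).trans (scal_mon 0).symm)))
  · exact Or.inl (Or.inr (eqC_of_toM_eq ((hg.trans hk).trans (scal_mon 1).symm)))
  · exact Or.inr (eqC_of_toM_eq ((hg.trans hk).trans (scal_mon 2).symm))

/-- The quotient map by the centre. -/
abbrev pmap : G6 →* G6 ⧸ Zs := QuotientGroup.mk' Zs

theorem pmap_eq_iff {a b : G6} : pmap a = pmap b ↔ a⁻¹ * b ∈ Zs := QuotientGroup.eq

theorem pmap_comm_iff {a b : G6} : pmap a * pmap b = pmap b * pmap a ↔ a * b * a⁻¹ * b⁻¹ ∈ Zs := by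
  rw [← QuotientGroup.eq_one_iff, show ((a * b * a⁻¹ * b⁻¹ : G6) : G6 ⧸ Zs) =
    pmap a * pmap b * (pmap a)⁻¹ * (pmap b)⁻¹ from rfl, ← commutatorElement_def,
    commutatorElement_eq_one_iff_mul_comm]

theorem commute_mon {a b : G6} {e f : Fin 6 → ZMod 3} {σ τ : Equiv.Perm (Fin 6)} (ha : mt a = mon e σ)
    (hb : mt b = mon f τ) (h : a * b * a⁻¹ * b⁻¹ ∈ Zs) :
    σ * τ = τ * σ ∧ ∃ k, ∀ j, e (τ j) + f j = k + (f (σ j) + e j) := by
  obtain ⟨k, hk⟩ := exists_scalar h
  have he : mt (a * b) = mt (a * b * a⁻¹ * b⁻¹ * (b * a)) := congrArg mt (by group)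
  rw [map_mul, map_mul mt (a * b * a⁻¹ * b⁻¹) (b * a), hk, map_mul, ha, hb, mon_mul, mon_mul, mon_mul] at he
  obtain ⟨h1, h2⟩ := mon_inj he
  rw [one_mul] at h2
  exact ⟨h2, k, fun j => congrFun h1 j⟩

/-! ### The monomial subgroup -/

/-- All monomial elements. -/
abbrev Mon : Subgroup G6 := MonS ⊤

/-- The monomial elements with an even permutation. -/
abbrev M0 : Subgroup G6 := MonS (alternatingGroup (Fin 6))

/-- The diagonal elements. -/
abbrev E : Subgroup G6 := MonS ⊥

theorem card_E : Nat.card E = 243 := by rw [card_MonS, Subgroup.card_bot, mul_one]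

theorem card_Mon : Nat.card Mon = 174960 := by
  rw [card_MonS, Subgroup.card_top, Nat.card_perm, Nat.card_fin]; decide

theorem card_M0 : Nat.card M0 = 87480 := by
  rw [card_MonS, nat_card_alternatingGroup, Nat.card_fin]; decide

theorem mem_Mon {g : G6} {e : Fin 6 → ZMod 3} {σ : Equiv.Perm (Fin 6)} (h : mt g = mon e σ) : g ∈ Mon :=
  (mem_MonS h).2 trivial

theorem exists_of_mem_E {g : G6} (h : g ∈ E) : ∃ f, (∑ j, f j = 0) ∧ mt g = mon f 1 := by
  obtain ⟨e, σ, hσ, hg⟩ := h
  rw [Subgroup.mem_bot.1 hσ] at hg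
  exact ⟨e, sum_of_mt hg, hg⟩

theorem mem_E {g : G6} {f : Fin 6 → ZMod 3} (h : mt g = mon f 1) : g ∈ E := (mem_MonS h).2 rfl

theorem Zs_le_E : Zs ≤ E := Subgroup.zpowers_le.2 (mem_E mt_z0)

theorem E_comm : ∀ a ∈ E, ∀ b ∈ E, a * b = b * a := by
  intro a ha b hb
  obtain ⟨e, -, he⟩ := exists_of_mem_E ha
  obtain ⟨f, -, hf⟩ := exists_of_mem_E hb
  refine mt_injective ?_
  rw [map_mul, map_mul, he, hf, mon_mul, mon_mul]
  congr 1
  funext j
  exact add_comm _ _

/-- The permutation of a monomial element. -/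
noncomputable def permHom : Mon →* Equiv.Perm (Fin 6) where
  toFun g := g.2.choose_spec.choose
  map_one' := (mon_inj ((1 : Mon).2.choose_spec.choose_spec.2.symm.trans
    ((map_one mt).trans mon_one.symm))).2
  map_mul' a b := (mon_inj ((a * b).2.choose_spec.choose_spec.2.symm.trans
    ((map_mul mt (a : G6) (b : G6)).trans ((congrArg₂ (· * ·) a.2.choose_spec.choose_spec.2
      b.2.choose_spec.choose_spec.2).trans (mon_mul _ _ _ _))))).2

theorem permHom_spec (g : Mon) : ∃ e, mt g.1 = mon e (permHom g) := ⟨_, g.2.choose_spec.choose_spec.2⟩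

theorem mem_MonS_iff_permHom {S : Subgroup (Equiv.Perm (Fin 6))} (g : Mon) : g.1 ∈ MonS S ↔ permHom g ∈ S := by
  obtain ⟨e, he⟩ := permHom_spec g
  exact mem_MonS he

/-! ### The Sylow three subgroup -/

/-- Two disjoint three-cycles. -/
def c1 : Equiv.Perm (Fin 6) := swaps [(0, 1), (1, 2)]

/-- Two disjoint three-cycles. -/
def c2 : Equiv.Perm (Fin 6) := swaps [(3, 4), (4, 5)]

/-- The elements of the elementary group of order nine. -/
def pe (p : Fin 3 × Fin 3) : Equiv.Perm (Fin 6) := c1 ^ p.1.val * c2 ^ p.2.val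

theorem pe_mul : ∀ p q, pe p * pe q = pe (p + q) := by decide +kernel

theorem pe_inv : ∀ p, (pe p)⁻¹ = pe (-p) := fun p => inv_eq_of_mul_eq_one_right (by
  rw [pe_mul, add_neg_cancel]; rfl)

theorem pe_injective : Function.Injective pe := by
  unfold Function.Injective
  decide +kernel

/-- The elementary group of order nine. -/
def P3 : Subgroup (Equiv.Perm (Fin 6)) where
  carrier := Set.range pe
  one_mem' := ⟨0, rfl⟩
  mul_mem' := by rintro a b ⟨p, rfl⟩ ⟨q, rfl⟩; exact ⟨_, (pe_mul p q).symm⟩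
  inv_mem' := by rintro a ⟨p, rfl⟩; exact ⟨_, (pe_inv p).symm⟩

theorem card_P3 : Nat.card P3 = 9 :=
  (Nat.card_range_of_injective pe_injective).trans (by rw [Nat.card_prod, Nat.card_fin])

/-- The Sylow three subgroup. -/
abbrev P : Subgroup G6 := MonS P3

theorem card_P : Nat.card P = 2187 := by rw [card_MonS, card_P3]

theorem E_le_P : E ≤ P := MonS_mono bot_le

theorem P_le_M0 : P ≤ M0 := by
  refine MonS_mono ?_
  rintro _ ⟨p, rfl⟩
  rw [Equiv.Perm.mem_alternatingGroup]
  revert p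
  decide +kernel

theorem M0_le_Mon : M0 ≤ Mon := MonS_mono le_top

/-- The diagonal exponents commuting with a permutation modulo constants. -/
def fixSet (σ : Equiv.Perm (Fin 6)) : Finset (Fin 6 → ZMod 3) :=
  Finset.univ.filter fun f => (∑ j, f j = 0) ∧ ∃ k, ∀ j, f (σ j) = f j + k

theorem card_fixSet : ∀ p : Fin 3 × Fin 3, p ≠ 0 → (fixSet (pe p)).card ≤ 27 := by decide +kernel

theorem card_fixSet_inter : (fixSet (pe (1, 0)) ∩ fixSet (pe (0, 1))).card ≤ 9 := by decide +kernel

/-- The diagonal elements form the only large subgroup of `P` commutative modulo the centre. -/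
theorem eq_E {A : Subgroup G6} (hA : A ≤ P) (hc : Nat.card A = 243)
    (h : ∀ a ∈ A, ∀ b ∈ A, a * b * a⁻¹ * b⁻¹ ∈ Zs) : A = E := by
  classical
  let ρ : A →* Equiv.Perm (Fin 6) := permHom.comp (Subgroup.inclusion (hA.trans (P_le_M0.trans M0_le_Mon)))
  have hr : ρ.range ≤ P3 := by
    rintro _ ⟨a, rfl⟩
    exact (mem_MonS_iff_permHom _).1 (hA a.2)
  have hcard : Nat.card A = Nat.card ρ.ker * Nat.card ρ.range := by
    rw [Subgroup.card_eq_card_quotient_mul_card_subgroup ρ.ker, mul_comm,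
      Nat.card_congr (QuotientGroup.quotientKerEquivRange ρ).toEquiv]
  have hker : ∀ σ : Equiv.Perm (Fin 6), σ ∈ ρ.range → ∀ x : ρ.ker, ∃ f ∈ fixSet σ, mt x.1.1 = mon f 1 := by
    intro σ hσ x
    obtain ⟨a, rfl⟩ := hσ
    obtain ⟨f, hf⟩ := permHom_spec (Subgroup.inclusion (hA.trans (P_le_M0.trans M0_le_Mon)) x.1)
    obtain ⟨e, he⟩ := permHom_spec (Subgroup.inclusion (hA.trans (P_le_M0.trans M0_le_Mon)) a)
    rw [show permHom (Subgroup.inclusion (hA.trans (P_le_M0.trans M0_le_Mon)) x.1) = 1 from x.2] at hf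
    refine ⟨f, ?_, hf⟩
    simp only [fixSet, Finset.mem_filter, Finset.mem_univ, true_and]
    obtain ⟨-, k, hk⟩ := commute_mon he hf (h _ a.2 _ x.1.2)
    refine ⟨sum_of_mt hf, -k, fun j => ?_⟩
    have := hk j
    simp only [Equiv.Perm.one_apply] at this
    show f (permHom (Subgroup.inclusion (hA.trans (P_le_M0.trans M0_le_Mon)) a) j) = f j + -k
    linear_combination (norm := ring_nf) -this
  have hbound : ∀ S : Finset (Fin 6 → ZMod 3), (∀ x : ρ.ker, ∃ f ∈ S, mt x.1.1 = mon f 1) →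
      Nat.card ρ.ker ≤ S.card := by
    intro S hS
    choose f hf using hS
    have : Function.Injective fun x => (⟨f x, (hf x).1⟩ : {g // g ∈ S}) := fun x y hxy =>
      Subtype.ext (Subtype.ext (mt_injective ((hf x).2.trans (by
        rw [show f x = f y from congrArg Subtype.val hxy]; exact (hf y).2.symm))))
    simpa using Nat.card_le_card_of_injective _ this
  by_cases h9 : ρ.range = P3
  · have h1 : pe (1, 0) ∈ ρ.range := h9 ▸ ⟨_, rfl⟩
    have h2 : pe (0, 1) ∈ ρ.range := h9 ▸ ⟨_, rfl⟩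
    have := hbound (fixSet (pe (1, 0)) ∩ fixSet (pe (0, 1))) fun x => by
      obtain ⟨f, hf, hf'⟩ := hker _ h1 x
      obtain ⟨g, hg, hg'⟩ := hker _ h2 x
      obtain rfl := (mon_inj (hf'.symm.trans hg')).1
      exact ⟨f, Finset.mem_inter.2 ⟨hf, hg⟩, hf'⟩
    rw [hc, h9, card_P3] at hcard
    have := card_fixSet_inter
    omega
  by_cases h1 : ρ.range = ⊥
  · refine Subgroup.eq_of_le_of_card_ge (fun a ha => ?_) (by rw [card_E, hc])
    exact (mem_MonS_iff_permHom (Subgroup.inclusion (hA.trans (P_le_M0.trans M0_le_Mon)) ⟨a, ha⟩)).2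
      (Subgroup.mem_bot.2 (MonoidHom.ext_iff.1 (MonoidHom.range_eq_bot_iff.1 h1) ⟨a, ha⟩))
  · obtain ⟨σ, hσ, hne⟩ : ∃ σ ∈ ρ.range, σ ≠ 1 := by
      by_contra hcon
      push Not at hcon
      exact h1 ((Subgroup.eq_bot_iff_forall _).2 hcon)
    obtain ⟨p, rfl⟩ := hr hσ
    have hp : p ≠ 0 := by rintro rfl; exact hne rfl
    have h3 : Nat.card ρ.range ≤ 3 := by
      have hd := Subgroup.card_dvd_of_le hr
      have hlt : Nat.card ρ.range ≠ 9 := fun h' => h9 (Subgroup.eq_of_le_of_card_ge hr (by rw [h', card_P3]))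
      rw [card_P3] at hd
      have := Nat.le_of_dvd (by norm_num) hd
      interval_cases hh : Nat.card ρ.range <;> omega
    have := (hbound _ (hker _ hσ)).trans (card_fixSet p hp)
    rw [hc] at hcard
    nlinarith

/-- Exponents constant on the two blocks. -/
def blockE (u v : ZMod 3) : Fin 6 → ZMod 3 := ![u, u, u, v, v, v]

/-- The element separating the two blocks. -/
def zz : G6 := mg (blockE 1 2) 1 (by decide)

theorem mt_zz : mt zz = mon (blockE 1 2) 1 := rfl

theorem blockE_eq : ∀ u v : ZMod 3, blockE u v =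
    (fun j => ((2 * u + 2 * v).val : ZMod 3) + ((v - u).val • blockE 1 2) j) := by decide +kernel

theorem zz_mem_E : zz ∈ E := mem_E mt_zz

theorem blockE_pe : ∀ p j, blockE 1 2 (pe p j) = blockE 1 2 j := by decide +kernel

theorem zz_comm {g : G6} (hg : g ∈ P) : g * zz * g⁻¹ * zz⁻¹ = 1 := by
  obtain ⟨e, _, ⟨p, rfl⟩, he⟩ := hg
  have : g * zz = zz * g := mt_injective (by
    rw [map_mul, map_mul, he, mt_zz, mon_mul, mon_mul, mul_one, one_mul]
    congr 1
    funext j
    rw [Equiv.Perm.one_apply, add_comm, blockE_pe])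
  rw [this]; group

theorem zz_not_mem : zz ∉ Zs := fun h => by
  obtain ⟨k, hk⟩ := exists_scalar h
  have := (mon_inj (mt_zz.symm.trans hk)).1
  have h0 := congrFun this 0
  have h3 := congrFun this 3
  simp [blockE] at h0 h3
  rw [← h0] at h3
  exact absurd h3 (by decide)

theorem pmap_block {g : G6} {u v : ZMod 3} (h : mt g = mon (blockE u v) 1) :
    pmap g = pmap zz ^ (v - u).val := by
  have hg : g = z0 ^ (2 * u + 2 * v).val * zz ^ (v - u).val := mt_injective (by
    rw [h, map_mul, z0_pow, map_pow mt zz, mt_zz, mon_pow, mon_mul, one_mul, blockE_eq u v])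
  rw [hg, map_mul, map_pow pmap zz, show pmap (z0 ^ (2 * u + 2 * v).val) = 1 from
    (QuotientGroup.eq_one_iff _).2 (Subgroup.npow_mem_zpowers _ _), one_mul]

theorem centre_exponents : ∀ p : Fin 3 × Fin 3, p ≠ 0 →
    (∃ f ∈ ([![1, 2, 0, 0, 0, 0], ![0, 0, 0, 1, 2, 0]] : List (Fin 6 → ZMod 3)),
      ∀ k : ZMod 3, ∃ j, f (pe p j) ≠ f j + k) := by decide +kernel

/-- The centre of `P` modulo the centre. -/
theorem block_of_central {g : G6} (hg : g ∈ P) (h : ∀ x ∈ P, g * x * g⁻¹ * x⁻¹ ∈ Zs) :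
    ∃ u v, mt g = mon (blockE u v) 1 := by
  obtain ⟨e, _, ⟨p, rfl⟩, he⟩ := hg
  have hp : p = 0 := by
    by_contra hp
    obtain ⟨f, hf, hbad⟩ := centre_exponents p hp
    have hs : ∑ j, f j = 0 := by
      revert f
      simp only [List.mem_cons, List.not_mem_nil, or_false]
      rintro f (rfl | rfl) - <;> decide
    obtain ⟨-, k, hk⟩ := commute_mon he (rfl : mt (mg f 1 hs) = mon f 1) (h _ (E_le_P (mem_E rfl)))
    obtain ⟨j, hj⟩ := hbad (-k)
    have := hk j
    simp only [Equiv.Perm.one_apply] at this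
    exact hj (by linear_combination (norm := ring_nf) -this)
  subst hp
  have key : ∀ q : Fin 3 × Fin 3, ∃ k, ∀ j, e (pe q j) = k + e j := fun q => by
    obtain ⟨-, k, hk⟩ := commute_mon he (rfl : mt (mg 0 (pe q) (by simp)) = mon 0 (pe q))
      (h _ ⟨0, pe q, ⟨q, rfl⟩, rfl⟩)
    exact ⟨k, fun j => by simpa using hk j⟩
  obtain ⟨k, hk⟩ := key (1, 0)
  obtain ⟨l, hl⟩ := key (0, 1)
  refine ⟨e 0, e 3, he.trans ?_⟩
  have hk0 : k = 0 := by
    have := hk 3
    rw [show pe (1, 0) 3 = 3 by decide +kernel] at this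
    linear_combination (norm := ring_nf) -this
  have hl0 : l = 0 := by
    have := hl 0
    rw [show pe (0, 1) 0 = 0 by decide +kernel] at this
    linear_combination (norm := ring_nf) -this
  have a1 := hk 0; have a2 := hk 1; have b1 := hl 3; have b2 := hl 4
  rw [show pe (1, 0) 0 = 1 by decide +kernel, hk0, zero_add] at a1
  rw [show pe (1, 0) 1 = 2 by decide +kernel, hk0, zero_add] at a2
  rw [show pe (0, 1) 3 = 4 by decide +kernel, hl0, zero_add] at b1
  rw [show pe (0, 1) 4 = 5 by decide +kernel, hl0, zero_add] at b2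
  refine congrArg₂ mon (funext fun j => ?_) rfl
  fin_cases j <;> simp [blockE, a1, a2, b1, b2]

/-! ### The normaliser of the diagonal -/

/-- The monomial elements normalise the diagonal. -/
theorem normE_of_mem {g : G6} (hg : g ∈ Mon) : ∀ x ∈ E, g⁻¹ * x * g ∈ E := by
  intro x hx
  obtain ⟨e, σ, -, he⟩ := hg
  obtain ⟨f, hf0, hf⟩ := exists_of_mem_E hx
  have hs : ∑ j, f (σ j) = 0 := (Equiv.sum_comp σ f).trans hf0
  have heq : x * g = g * mg (fun j => f (σ j)) 1 hs := mt_injective (by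
    rw [map_mul, map_mul, hf, he, show mt (mg (fun j => f (σ j)) 1 hs) = mon _ 1 from rfl, mon_mul, mon_mul,
      one_mul, mul_one]
    congr 1
    funext j
    rw [Equiv.Perm.one_apply, add_comm])
  rw [mul_assoc, heq, inv_mul_cancel_left]
  exact mem_E rfl

theorem mul_diag_apply (M : Matrix (Fin 6) (Fin 6) F4) (f : Fin 6 → ZMod 3) (i j : Fin 6) :
    (M * mon f 1) i j = M i j * wp (f j) := by rw [mon_diag, Matrix.mul_diagonal]

theorem diag_mul_apply (M : Matrix (Fin 6) (Fin 6) F4) (f : Fin 6 → ZMod 3) (i j : Fin 6) :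
    (mon f 1 * M) i j = wp (f i) * M i j := by rw [mon_diag, Matrix.diagonal_mul]

theorem eq_of_entry {a : F4} {u v : ZMod 3} (ha : a ≠ 0) (h : a * wp u = wp v * a) : u = v :=
  wp_inj _ _ (mul_left_cancel₀ ha (h.trans (mul_comm _ _)))

/-- An exponent vector separating two positions. -/
def pairE (i i' : Fin 6) : Fin 6 → ZMod 3 := fun j => if j = i then 1 else if j = i' then 2 else 0

theorem sum_pair : ∀ i i' : Fin 6, i ≠ i' →
    ∑ j, pairE i i' j = 0 ∧ pairE i i' i ≠ pairE i i' i' := by decide +kernel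

/-- An element normalising the diagonal is monomial. -/
theorem mem_Mon_of_normE {g : G6} (h : ∀ x ∈ E, g⁻¹ * x * g ∈ E) : g ∈ Mon := by
  obtain ⟨e, σ, hM⟩ := exists_mon (mt_unitary g) fun j i i' hi hi' => by
    by_contra hne
    obtain ⟨hs, hd⟩ := sum_pair i i' hne
    obtain ⟨f, -, hf⟩ := exists_of_mem_E (h (mg _ 1 hs) (mem_E rfl))
    have heq : mt g * mon f 1 = mon (pairE i i') 1 * mt g := by
      rw [← hf, ← map_mul, show g * (g⁻¹ * mg _ 1 hs * g) = mg _ 1 hs * g by group, map_mul]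
      rfl
    have e1 := congrFun (congrFun heq i) j
    have e2 := congrFun (congrFun heq i') j
    rw [mul_diag_apply, diag_mul_apply] at e1 e2
    exact hd ((eq_of_entry hi e1).symm.trans (eq_of_entry hi' e2))
  exact mem_Mon hM

/-- An element centralising `P` is diagonal and constant on the blocks. -/
theorem block_of_centralizes {g : G6} (h : ∀ x ∈ P, g * x = x * g) : ∃ u v, mt g = mon (blockE u v) 1 := by
  have hE : ∀ x ∈ E, g⁻¹ * x * g ∈ E := fun x hx => by
    rwa [mul_assoc, ← h x (E_le_P hx), inv_mul_cancel_left]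
  obtain ⟨e, σ, -, he⟩ := mem_Mon_of_normE hE
  have hσ : σ = 1 := by
    ext j
    by_contra hne
    obtain ⟨hs, hd⟩ := sum_pair (σ j) j (fun h' => hne (by rw [h', Equiv.Perm.one_apply]))
    have := congrArg mt (h (mg _ 1 hs) (E_le_P (mem_E rfl)))
    rw [map_mul, map_mul, he, show mt (mg _ 1 hs) = mon _ 1 from rfl, mon_mul, mon_mul] at this
    have hh := congrFun (mon_inj this).1 j
    simp only [Equiv.Perm.one_apply] at hh
    rw [add_comm] at hh
    exact hd (add_right_cancel hh).symm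
  subst hσ
  exact block_of_central ((mem_MonS he).2 P3.one_mem) fun x hx => by
    rw [h x hx]; simp [mul_assoc]

/-! ### The centraliser of the separating element modulo the centre -/

/-- The block stabiliser. -/
def Lz : Subgroup G6 := (Subgroup.centralizer {pmap zz}).comap pmap

theorem mem_Lz {g : G6} : g ∈ Lz ↔ pmap g * pmap zz = pmap zz * pmap g := by
  rw [Lz, Subgroup.mem_comap, Subgroup.mem_centralizer_singleton_iff]

/-- The block pattern. -/
def Blk (M : Matrix (Fin 6) (Fin 6) F4) : Prop := ∀ i j : Fin 6, i.val / 3 ≠ j.val / 3 → M i j = 0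

theorem shift_bad : ∀ k : ZMod 3, k ≠ 0 → ∃ j : Fin 6, ∀ i : Fin 6,
    blockE 1 2 j ≠ k + blockE 1 2 i := by decide +kernel

theorem blk_of_mem {g : G6} (hg : g ∈ Lz) : Blk (mt g) := by
  obtain ⟨k, hk⟩ := exists_scalar (pmap_comm_iff.1 (mem_Lz.1 hg))
  have he : mt (g * zz) = mt (g * zz * g⁻¹ * zz⁻¹ * (zz * g)) := congrArg mt (by group)
  rw [map_mul, map_mul mt (g * zz * g⁻¹ * zz⁻¹) (zz * g), hk, map_mul, mt_zz, ← mul_assoc, mon_mul] at he
  have hent : ∀ i j, mt g i j ≠ 0 → blockE 1 2 j = k + blockE 1 2 i := fun i j hij => by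
    have := congrFun (congrFun he i) j
    rw [mul_diag_apply, mul_one, diag_mul_apply] at this
    simpa using eq_of_entry hij this
  have hk0 : k = 0 := by
    by_contra hk0
    obtain ⟨j, hj⟩ := shift_bad k hk0
    exact det_cube (mt_unitary g) (Matrix.det_eq_zero_of_column_eq_zero j fun i => by
      by_contra hi; exact hj i (hent i j hi))
  intro i j hij
  by_contra hne
  have := hent i j hne
  rw [hk0, zero_add] at this
  revert hij
  clear hne hent he
  revert i j
  decide +kernel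

theorem mem_of_blk {g : G6} (hg : Blk (mt g)) : g ∈ Lz := by
  rw [mem_Lz, ← map_mul, ← map_mul]
  refine congrArg pmap (mt_injective ?_)
  rw [map_mul, map_mul, mt_zz]
  ext i j : 1
  rw [mul_diag_apply, diag_mul_apply, mul_comm]
  by_cases hij : i.val / 3 = j.val / 3
  · rw [show blockE 1 2 j = blockE 1 2 i by revert i j; decide +kernel]
  · rw [hg i j hij, mul_zero, mul_zero]

/-! ### Block diagonal elements -/

theorem exists_bd (a b : Fin 4) : ∃ g : G6, mt g = toM (bdC a.val b.val) := by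
  have h := bd_ok a b
  simp only [okBd, Bool.and_eq_true] at h
  exact exists_mk (o := 4) h.1 h.2 (by decide)

/-- A block diagonal element. -/
noncomputable def bd (a b : Fin 4) : G6 := (exists_bd a b).choose

theorem mt_bd (a b : Fin 4) : mt (bd a b) = toM (bdC a.val b.val) := (exists_bd a b).choose_spec

/-- An entry of a representative of degree three. -/
def rEnt (r : Fin 4) (i j : Fin 3) : F4 := dec ((tabR.getD r.val []).getD (3 * i.val + j.val) 0)

/-- The coordinates of a vector in the frame of a representative have at most one non-zero entry. -/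
def Good (r : Fin 4) (a b c : F4) : Prop :=
  ∀ i i' : Fin 3, rEnt r 0 i ^ 2 * a + rEnt r 1 i ^ 2 * b + rEnt r 2 i ^ 2 * c ≠ 0 →
    rEnt r 0 i' ^ 2 * a + rEnt r 1 i' ^ 2 * b + rEnt r 2 i' ^ 2 * c ≠ 0 → i = i'

instance decGood (r : Fin 4) (a b c : F4) : Decidable (Good r a b c) := inferInstanceAs (Decidable (∀ _, _))

theorem frame_exists : ∀ a b c : F4, a * a ^ 2 + b * b ^ 2 + c * c ^ 2 = 1 → ∃ r, Good r a b c := by
  decide +kernel

theorem frame_orth : ∀ a b c : F4, a * a ^ 2 + b * b ^ 2 + c * c ^ 2 = 1 → ∀ x y z : F4,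
    x * x ^ 2 + y * y ^ 2 + z * z ^ 2 = 1 → a * x ^ 2 + b * y ^ 2 + c * z ^ 2 = 0 →
      ∀ r, Good r a b c → Good r x y z := by decide +kernel

theorem bd_blk' : ∀ q : (Fin 4 × Fin 4) × Fin 6 × Fin 6,
    ¬(toM (bdC q.1.1.val q.1.2.val) q.2.1 q.2.2 ≠ (0 : F4) ∧ q.2.1.val / 3 ≠ q.2.2.val / 3) := by decide +kernel

theorem bd_blk (a b : Fin 4) (i j : Fin 6) (h : i.val / 3 ≠ j.val / 3) :
    toM (bdC a.val b.val) i j = 0 := of_not_not fun hne => bd_blk' ((a, b), i, j) ⟨hne, h⟩

theorem bd_first : ∀ a b : Fin 4, ∀ i j : Fin 3,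
    toM (bdC a.val b.val) (Fin.castAdd 3 i) (Fin.castAdd 3 j) = rEnt a i j := by decide +kernel

theorem bd_second : ∀ a b : Fin 4, ∀ i j : Fin 3,
    toM (bdC a.val b.val) (Fin.natAdd 3 i) (Fin.natAdd 3 j) = rEnt b i j := by decide +kernel

theorem bd_zero : toM (bdC 0 0) = 1 := by decide +kernel

theorem split6 : ∀ j : Fin 6, (∃ k : Fin 3, Fin.castAdd 3 k = j) ∨ ∃ k : Fin 3, Fin.natAdd 3 k = j := by
  decide +kernel

/-- A block diagonal element is one of sixteen times a monomial one. -/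
theorem exists_bd_mul {g : G6} (hg : g ∈ Lz) : ∃ a b, ∃ m ∈ Mon, g = bd a b * m := by
  have hb := blk_of_mem hg
  set M := mt g with hM
  have hu : ∀ j j', ∑ i : Fin 6, M i j * M i j' ^ 2 = (1 : Matrix (Fin 6) (Fin 6) F4) j j' := fun j j' => by
    rw [← mt_unitary g, Matrix.mul_apply]; rfl
  simp only [Fin.sum_univ_six] at hu
  have hone : ∀ (S : Fin 3 → Fin 6), (∀ i : Fin 6, (∃ k, S k = i) ∨ ∀ k, i.val / 3 ≠ (S k).val / 3) →
      (∀ j j', ∑ k, M (S k) (S j) * M (S k) (S j') ^ 2 = (1 : Matrix (Fin 6) (Fin 6) F4) (S j) (S j')) →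
      Function.Injective S → ∃ r, ∀ j, Good r (M (S 0) (S j)) (M (S 1) (S j)) (M (S 2) (S j)) := by
    intro S _ horth hS
    simp only [Fin.sum_univ_three] at horth
    obtain ⟨r, hr⟩ := frame_exists _ _ _ ((horth 0 0).trans (Matrix.one_apply_eq _))
    refine ⟨r, fun j => ?_⟩
    rcases eq_or_ne j 0 with rfl | hj
    · exact hr
    · exact frame_orth _ _ _ ((horth 0 0).trans (Matrix.one_apply_eq _)) _ _ _
        ((horth j j).trans (Matrix.one_apply_eq _))
        ((horth 0 j).trans (Matrix.one_apply_ne fun h => hj (hS h).symm)) r hr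
  obtain ⟨a, ha⟩ := hone (Fin.castAdd 3) (by decide +kernel) (fun j j' => by
    have h3 : ∀ k : Fin 3, M (Fin.natAdd 3 k) (Fin.castAdd 3 j) = 0 := fun k =>
      hb _ _ (by revert k j; decide +kernel)
    rw [← hu, Fin.sum_univ_three, show (3 : Fin 6) = Fin.natAdd 3 (0 : Fin 3) from rfl,
      show (4 : Fin 6) = Fin.natAdd 3 (1 : Fin 3) from rfl,
      show (5 : Fin 6) = Fin.natAdd 3 (2 : Fin 3) from rfl, h3, h3, h3]
    simp only [zero_mul, add_zero]
    rfl) (Fin.castAdd_injective 3 3)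
  obtain ⟨b, hb'⟩ := hone (Fin.natAdd 3) (by decide +kernel) (fun j j' => by
    have h3 : ∀ k : Fin 3, M (Fin.castAdd 3 k) (Fin.natAdd 3 j) = 0 := fun k =>
      hb _ _ (by revert k j; decide +kernel)
    rw [← hu, Fin.sum_univ_three, show (0 : Fin 6) = Fin.castAdd 3 (0 : Fin 3) from rfl,
      show (1 : Fin 6) = Fin.castAdd 3 (1 : Fin 3) from rfl,
      show (2 : Fin 6) = Fin.castAdd 3 (2 : Fin 3) from rfl, h3, h3, h3]
    simp only [zero_mul, zero_add]
    rfl) (Fin.natAdd_injective 3 3)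
  refine ⟨a, b, (bd a b)⁻¹ * g, ?_, (mul_inv_cancel_left _ _).symm⟩
  suffices hone : ∀ j i i', mt ((bd a b)⁻¹ * g) i j ≠ 0 → mt ((bd a b)⁻¹ * g) i' j ≠ 0 → i = i' by
    obtain ⟨e, σ, he⟩ := exists_mon (mt_unitary ((bd a b)⁻¹ * g)) hone
    exact mem_Mon he
  intro j i i' hi hi'
  rw [map_mul, mt_inv, mt_bd, ← hM, Matrix.mul_apply] at hi hi'
  simp only [Matrix.transpose_apply, Matrix.map_apply, Fin.sum_univ_six] at hi hi'
  have hB : ∀ r : Fin 6, ∀ i' : Fin 6, r.val / 3 ≠ i'.val / 3 → toM (bdC a.val b.val) r i' ^ 2 * M r j = 0 :=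
    fun r i' h => by rw [bd_blk a b r i' h]; simp
  have hcols : ∀ r : Fin 6, r.val / 3 ≠ j.val / 3 → ∀ x : F4, x * M r j = 0 := fun r h x => by
    rw [hb r j h, mul_zero]
  obtain ⟨k, rfl⟩ | ⟨k, rfl⟩ := split6 j
  · obtain ⟨l, rfl⟩ | ⟨l, rfl⟩ := split6 i
    · obtain ⟨l', rfl⟩ | ⟨l', rfl⟩ := split6 i'
      · rw [hcols 3 (by simp <;> omega), hcols 4 (by simp <;> omega),
          hcols 5 (by simp <;> omega), add_zero, add_zero, add_zero] at hi hi'
        rw [show (0 : Fin 6) = Fin.castAdd 3 (0 : Fin 3) from rfl,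
          show (1 : Fin 6) = Fin.castAdd 3 (1 : Fin 3) from rfl,
          show (2 : Fin 6) = Fin.castAdd 3 (2 : Fin 3) from rfl, bd_first, bd_first, bd_first] at hi hi'
        rw [ha k l l' hi hi']
      · refine absurd ?_ hi'
        simp only [hB 0 (Fin.natAdd 3 l') (by simp <;> omega), hB 1 (Fin.natAdd 3 l') (by simp <;> omega),
          hB 2 (Fin.natAdd 3 l') (by simp <;> omega), hcols 3 (by simp <;> omega),
          hcols 4 (by simp <;> omega), hcols 5 (by simp <;> omega), add_zero]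
    · refine absurd ?_ hi
      simp only [hB 0 (Fin.natAdd 3 l) (by simp <;> omega), hB 1 (Fin.natAdd 3 l) (by simp <;> omega),
        hB 2 (Fin.natAdd 3 l) (by simp <;> omega), hcols 3 (by simp <;> omega),
        hcols 4 (by simp <;> omega), hcols 5 (by simp <;> omega), add_zero]
  · obtain ⟨l, rfl⟩ | ⟨l, rfl⟩ := (split6 i).symm
    · obtain ⟨l', rfl⟩ | ⟨l', rfl⟩ := (split6 i').symm
      · rw [hcols 0 (by simp <;> omega), hcols 1 (by simp <;> omega),
          hcols 2 (by simp <;> omega), zero_add, zero_add, zero_add] at hi hi'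
        rw [show (3 : Fin 6) = Fin.natAdd 3 (0 : Fin 3) from rfl,
          show (4 : Fin 6) = Fin.natAdd 3 (1 : Fin 3) from rfl,
          show (5 : Fin 6) = Fin.natAdd 3 (2 : Fin 3) from rfl, bd_second, bd_second, bd_second] at hi hi'
        rw [hb' k l l' hi hi']
      · refine absurd ?_ hi'
        simp only [hB 3 (Fin.castAdd 3 l') (by simp <;> omega), hB 4 (Fin.castAdd 3 l') (by simp <;> omega),
          hB 5 (Fin.castAdd 3 l') (by simp <;> omega), hcols 0 (by simp <;> omega),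
          hcols 1 (by simp <;> omega), hcols 2 (by simp <;> omega), add_zero]
    · refine absurd ?_ hi
      simp only [hB 3 (Fin.castAdd 3 l) (by simp <;> omega), hB 4 (Fin.castAdd 3 l) (by simp <;> omega),
        hB 5 (Fin.castAdd 3 l) (by simp <;> omega), hcols 0 (by simp <;> omega),
        hcols 1 (by simp <;> omega), hcols 2 (by simp <;> omega), add_zero]

theorem card_Lz : Nat.card Lz ≤ 16 * 174960 := by
  have : Function.Surjective fun p : {p : (Fin 4 × Fin 4) × Mon // bd p.1.1 p.1.2 * p.2 ∈ Lz} =>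
      (⟨bd p.1.1.1 p.1.1.2 * p.1.2, p.2⟩ : Lz) := by
    rintro ⟨g, hg⟩
    obtain ⟨a, b, m, hm, rfl⟩ := exists_bd_mul hg
    exact ⟨⟨((a, b), ⟨m, hm⟩), hg⟩, rfl⟩
  refine (Nat.card_le_card_of_surjective _ this).trans ((Finite.card_subtype_le _).trans ?_)
  rw [Nat.card_prod, Nat.card_prod, Nat.card_fin, card_Mon]

/-- The transpositions modulo the elementary group of order nine. -/
def pp (k : Fin 4) : Equiv.Perm (Fin 6) := swaps (ppTab.getD k.val [])

theorem block_perm : ∀ σ : Equiv.Perm (Fin 6), (∀ j : Fin 6, (σ j).val / 3 = j.val / 3) →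
    ∃ k p, σ = pp k * pe p := by decide +kernel

end CfsgLib.SU6Cover
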